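import Cfsg.Agent.Lib.FFPair.Factors
import Cfsg.Agent.Lib.PLocal.Offender

/-!
# Abelian offenders on a failure of factorisation pair for the prime two

* `IsFF.best_of_abelian_two`: an abelian `2`-group `A ≤ H` of largest value `|A| |C_V(A)|` among its
  subgroups is a best offender, that is, it has exponent two.
-/

open Subgroup
open scoped commutatorElement

namespace Cfsg.Agent.FFPair

variable {G : Type*} [Group G]

/-- An element of a `2`-group fixing a line of a plane acts as an element of order dividing two on it. -/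
theorem sq_conj_eq_of_line {P l : Subgroup G} [Finite G] (hP : Nat.card P = 4) (hl : Nat.card l = 2)
    (hlP : l ≤ P) (hl1 : ∀ c ∈ l, c * c = 1) {a : G} (haP : a ∈ normalizer (P : Set G))
    (hac : a ∈ centralizer (l : Set G)) : a ^ 2 ∈ centralizer (P : Set G) := by
  have hidx : (l.subgroupOf P).index = 2 := by
    have h := (l.subgroupOf P).card_mul_index
    rw [Nat.card_congr (subgroupOfEquivOfLe hlP).toEquiv, hP, hl] at h
    omega
  refine mem_centralizer_iff.2 fun w hw => ?_
  have haw : a * w * a⁻¹ ∈ P := (mem_normalizer_iff.1 haP w).1 hw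
  have hiff : a * w * a⁻¹ ∈ l ↔ w⁻¹ ∈ l := by
    rw [inv_mem_iff]
    exact (mem_normalizer_iff.1 (centralizer_le_normalizer _ hac) w).symm
  have hc : a * w * a⁻¹ * w⁻¹ ∈ l := by
    have := (mul_mem_iff_of_index_two hidx (a := (⟨_, haw⟩ : P)) (b := ⟨w⁻¹, P.inv_mem hw⟩)).2
      (by simpa only [mem_subgroupOf] using hiff)
    simpa only [mem_subgroupOf, Subgroup.coe_mul] using this
  set c := a * w * a⁻¹ * w⁻¹ with hcdef
  have h1 : a * w * a⁻¹ = c * w := by rw [hcdef, inv_mul_cancel_right]
  have h2 : a * c = c * a := (mem_centralizer_iff.1 hac c hc).symm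
  have h3 : a ^ 2 * w * (a ^ 2)⁻¹ = w := by
    calc a ^ 2 * w * (a ^ 2)⁻¹ = a * (a * w * a⁻¹) * a⁻¹ := by
          rw [pow_two, mul_inv_rev]; simp only [mul_assoc]
      _ = (a * c) * w * a⁻¹ := by rw [h1]; group
      _ = c * (a * w * a⁻¹) := by rw [h2]; group
      _ = w := by rw [h1, ← mul_assoc, hl1 c hc, one_mul]
  exact (mul_inv_eq_iff_eq_mul.1 h3).symm

variable [Finite G] {V H K A : Subgroup G}

/-- An abelian `2`-subgroup maximising `|B| |C_V(B)|` among its subgroups is a best offender. -/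
theorem IsFF.best_of_abelian_two (hF : IsFF 2 V H K) (hA : A ≤ H) (hAc : IsMulCommutative A)
    (hA2 : IsPGroup 2 A)
    (hmax : ∀ B : Subgroup G, B ≤ A → Nat.card B * Nat.card ↥(V ⊓ centralizer (B : Set G)) ≤
      Nat.card A * Nat.card ↥(V ⊓ centralizer (A : Set G))) :
    Cfsg.IsBestOffenderOn 2 V A := by
  haveI : Fact (Nat.Prime 2) := ⟨Nat.prime_two⟩
  have hVV := PLocal.elemAb_le_centralizer hF.elem
  have hAV : A ≤ normalizer (V : Set G) := hA.trans hF.norm
  have hAA : A ≤ centralizer (A : Set G) := le_centralizer_iff_isMulCommutative.2 hAc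
  have hab : ⁅A, A⁆ ≤ centralizer (V : Set G) := by
    rw [commutator_eq_bot_iff_le_centralizer.2 hAA]; exact bot_le
  obtain ⟨h1, h2⟩ := PLocal.replacement hVV hAV hab hmax (U := V) le_rfl
  set B := A ⊓ centralizer ((⁅V, A⁆ : Subgroup G) : Set G)
  have hBA : B ≤ A := inf_le_left
  have hBb : Cfsg.IsBestOffenderOn 2 V B := by
    refine ⟨fun C hC => h1 ▸ hmax C (hC.trans hBA), (commutator_mono hBA hBA).trans hab, fun b hb => ?_⟩
    refine mem_centralizer_iff.2 fun v hv => ?_
    set c := ⁅b, v⁆ with hc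
    have hcm : c ∈ ⁅V, A⁆ := by
      rw [Subgroup.commutator_comm]
      exact commutator_mem_commutator (hBA hb) hv
    have hcV : c ∈ V := le_normalizer_iff_commutator_le_left.1 hAV hcm
    have hbc : b * c = c * b := (mem_centralizer_iff.1 hb.2 c hcm).symm
    have hbv : b * v * b⁻¹ = c * v := by rw [hc, commutatorElement_def, inv_mul_cancel_right]
    have hcc : c * c = 1 := by rw [← pow_two]; exact hF.elem.2 c hcV
    have h3 : b ^ 2 * v * (b ^ 2)⁻¹ = v := by
      calc b ^ 2 * v * (b ^ 2)⁻¹ = b * (b * v * b⁻¹) * b⁻¹ := by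
            rw [pow_two, mul_inv_rev]; simp only [mul_assoc]
        _ = (b * c) * v * b⁻¹ := by rw [hbv]; group
        _ = c * (b * v * b⁻¹) := by rw [hbc]; group
        _ = v := by rw [hbv, ← mul_assoc, hcc, one_mul]
    exact (mul_inv_eq_iff_eq_mul.1 h3).symm
  obtain ⟨k, T, hT, -, hTs⟩ := hF.exists_tv_basis (hBA.trans hA) hBb
  have hTA : ∀ i, T i ≤ A := fun i => (hT i).1.trans hBA
  have hfac := fun i => hF.exists_factor ((hTA i).trans hA) (hT i).2
  set R : Fin k → Subgroup G := fun i => ⁅K, T i⁆ with hR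
  set P : Fin k → Subgroup G := fun i => ⁅V, factor K (T i)⁆ with hP
  -- `A` normalises every factor and squares to elements fixing every plane
  have hmapR : ∀ a ∈ A, ∀ i, (R i).map (MulAut.conj a).toMonoidHom = R i := by
    intro a ha i
    have hTi : (T i).map (MulAut.conj a).toMonoidHom = T i :=
      PLocal.mem_normalizer_iff_map_eq.1
        (centralizer_le_normalizer _ (centralizer_le (hTA i) (hAA ha)))
    rw [hR]
    simp only [Subgroup.map_commutator, hTi,
      PLocal.mem_normalizer_iff_map_eq.1 (hF.normK (hA ha))]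
  have hmapP : ∀ a ∈ A, ∀ i, (P i).map (MulAut.conj a).toMonoidHom = P i := by
    intro a ha i
    have hTi : (T i).map (MulAut.conj a).toMonoidHom = T i :=
      PLocal.mem_normalizer_iff_map_eq.1
        (centralizer_le_normalizer _ (centralizer_le (hTA i) (hAA ha)))
    rw [hP]
    simp only [factor, Subgroup.map_commutator, Subgroup.map_sup, hTi,
      PLocal.mem_normalizer_iff_map_eq.1 (hF.normK (hA ha)),
      PLocal.mem_normalizer_iff_map_eq.1 (hAV ha)]
  have hsq : ∀ a ∈ A, ∀ i, a ^ 2 ∈ centralizer (P i : Set G) := by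
    intro a ha i
    obtain ⟨hl, hlV, -, -⟩ := (hT i).2.comm_card hF.elem ((hTA i).trans hAV)
    have hAl : A ≤ normalizer ((⁅V, T i⁆ : Subgroup G) : Set G) := fun b hb => by
      rw [PLocal.mem_normalizer_iff_map_eq, Subgroup.map_commutator,
        PLocal.mem_normalizer_iff_map_eq.1 (hAV hb),
        PLocal.mem_normalizer_iff_map_eq.1
          (centralizer_le_normalizer _ (centralizer_le (hTA i) (hAA hb)))]
    exact sq_conj_eq_of_line (hfac i).1.plane.card hl
      (commutator_mono le_rfl le_sup_right) (fun c hc => by rw [← pow_two]; exact hF.elem.2 c (hlV hc))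
      (PLocal.mem_normalizer_iff_map_eq.2 (hmapP a ha i)) (centralizes_line hl hA2 hAl ha)
  -- the decomposition of `V` under the odd part of the factors
  set L := ⨆ i, R i with hL
  have hLK : L ≤ K := iSup_le fun i =>
    le_normalizer_iff_commutator_le_left.1 (((hTA i).trans hA).trans hF.normK)
  have hLV : L ≤ normalizer (V : Set G) := (hLK.trans hF.le).trans hF.norm
  haveI : IsMulCommutative V := hF.elem.1
  have hcop : (Nat.card L).Coprime (Nat.card V) := by
    obtain ⟨n, hn⟩ := IsPGroup.iff_card.1 (isPGroup_V hF)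
    rw [hn]
    exact (hF.cop.coprime_dvd_left (card_dvd_of_le hLK)).pow_right n
  have hdec := Coprime.abelian_sup_eq hLV hcop
  have hdis := Coprime.abelian_inf_eq_bot hLV hcop
  set M := ⁅V, L⁆
  set U := V ⊓ centralizer (L : Set G) with hU
  have hMV : M ≤ V := le_normalizer_iff_commutator_le_left.1 hLV
  have hMP : M ≤ ⨆ i, P i := by
    show ⁅V, L⁆ ≤ _
    rw [hL, Subgroup.iSup_eq_closure]
    refine commutator_closure_le (fun s hs => ?_) fun v hv s hs => ?_
    · obtain ⟨j, hj⟩ := Set.mem_iUnion.1 hs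
      rw [PLocal.mem_normalizer_iff_map_eq, Subgroup.map_iSup]
      refine iSup_congr fun i => PLocal.mem_normalizer_iff_map_eq.1 ?_
      have hjE : s ∈ factor K (T j) := mem_sup_left hj
      rcases hF.eq_or_commute ((hTA i).trans hA) (hT i).2 ((hTA j).trans hA) (hT j).2 with h | ⟨-, -, h⟩
      · exact (hfac i).1.plane.norm (h.le hjE)
      · exact centralizer_le_normalizer _ (le_centralizer_iff.1 (h.trans inf_le_right) hjE)
    · obtain ⟨j, hj⟩ := Set.mem_iUnion.1 hs
      exact le_iSup P j (commutator_mem_commutator hv (mem_sup_left hj))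
  have hUB : U ≤ ⁅V, A⁆ ⊔ (V ⊓ centralizer (A : Set G)) := by
    rw [← h2]
    refine fun v hv => ⟨hv.1, mem_centralizer_iff.2 fun b hb => ?_⟩
    have hle : B ≤ centralizer {v} := hTs ▸ iSup_le fun i t ht => by
      have hv' : v ∈ V ⊓ centralizer (R i : Set G) :=
        ⟨hv.1, centralizer_le (le_iSup R i : R i ≤ L) hv.2⟩
      have hfix := (hfac i).1.fix
      rw [hfix] at hv'
      exact mem_centralizer_singleton_iff.2 (mem_centralizer_iff.1 hv'.2 t (mem_sup_right ht))
    exact mem_centralizer_singleton_iff.1 (hle hb)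
  have hAL : ∀ a ∈ A, L.map (MulAut.conj a).toMonoidHom = L := fun a ha => by
    rw [hL, Subgroup.map_iSup]; exact iSup_congr fun i => hmapR a ha i
  have hAM : A ≤ normalizer (M : Set G) := fun a ha => by
    show a ∈ normalizer ((⁅V, L⁆ : Subgroup G) : Set G)
    rw [PLocal.mem_normalizer_iff_map_eq, Subgroup.map_commutator,
      PLocal.mem_normalizer_iff_map_eq.1 (hAV ha), hAL a ha]
  have hAU : A ≤ normalizer (U : Set G) := fun a ha => Coprime.mem_normalizer_of_forall fun u hu =>
    ⟨(mem_normalizer_iff.1 (hAV ha) u).1 hu.1, (mem_normalizer_iff.1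
      (PLocal.normalizer_le_normalizer_centralizer _ (PLocal.mem_normalizer_iff_map_eq.2 (hAL a ha))) u).1 hu.2⟩
  have hsplit : ∀ {v}, v ∈ V → ∃ u ∈ U, ∃ m ∈ M, u * m = v := by
    intro v hv
    have hv' : v ∈ U ⊔ M := hdec.symm ▸ hv
    rw [← SetLike.mem_coe, Subgroup.coe_mul_of_right_le_normalizer_left U M
      ((hMV.trans hVV).trans ((centralizer_le (inf_le_left : U ≤ V)).trans
        (centralizer_le_normalizer _)))] at hv'
    exact Set.mem_mul.1 hv'
  set S := ⁅U, A⁆ ⊔ (U ⊓ centralizer (A : Set G))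
  have hUA : ⁅U, A⁆ ≤ U := le_normalizer_iff_commutator_le_left.1 hAU
  have hSU : S ≤ U := sup_le hUA inf_le_left
  have hUMS : U ≤ M ⊔ S := by
    refine hUB.trans (sup_le (commutator_le.2 fun v hv a ha => ?_) fun v hv => ?_)
    · obtain ⟨u, hu, m, hm, rfl⟩ := hsplit hv
      rw [commutatorElement_mul_left_eq_conj_mul]
      have hma : ⁅m, a⁆ ∈ M := le_normalizer_iff_commutator_le_left.1 hAM (commutator_mem_commutator hm ha)
      rw [PLocal.elemAb_comm hF.elem hu.1 (hMV hma), mul_inv_cancel_right]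
      exact mul_mem_sup hma (mem_sup_left (commutator_mem_commutator hu ha))
    · obtain ⟨u, hu, m, hm, rfl⟩ := hsplit hv.1
      refine mul_mem (mem_sup_right (mem_sup_right ⟨hu, mem_centralizer_iff.2 fun a ha => ?_⟩))
        (mem_sup_left hm)
      have he : a * (u * m) * a⁻¹ = u * m := by
        rw [mem_centralizer_iff.1 hv.2 a ha, mul_inv_cancel_right]
      have hu' : a * u * a⁻¹ ∈ U := (mem_normalizer_iff.1 (hAU ha) u).1 hu
      have hm' : a * m * a⁻¹ ∈ M := (mem_normalizer_iff.1 (hAM ha) m).1 hm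
      have e : u⁻¹ * (a * u * a⁻¹) = m * (a * m * a⁻¹)⁻¹ := by
        rw [inv_mul_eq_iff_eq_mul, ← mul_assoc, eq_mul_inv_iff_mul_eq, conj_mul]
        exact he
      have h0 : u⁻¹ * (a * u * a⁻¹) ∈ U ⊓ M :=
        ⟨U.mul_mem (U.inv_mem hu) hu', e ▸ M.mul_mem hm (M.inv_mem hm')⟩
      rw [hdis, mem_bot, inv_mul_eq_one] at h0
      exact mul_inv_eq_iff_eq_mul.1 h0.symm
  have hUS : U ≤ S := by
    intro u hu
    have hu' := hUMS hu
    rw [← SetLike.mem_coe, Subgroup.coe_mul_of_right_le_normalizer_left M S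
      (((hSU.trans inf_le_left).trans hVV).trans ((centralizer_le hMV).trans
        (centralizer_le_normalizer _)))] at hu'
    obtain ⟨m, hm, s, hs, rfl⟩ := Set.mem_mul.1 hu'
    have h0 : m ∈ U ⊓ M := ⟨by simpa using U.mul_mem hu (U.inv_mem (hSU hs)), hm⟩
    rw [hdis, mem_bot] at h0
    rw [h0, one_mul]
    exact hs
  have hAcU : A ≤ centralizer (U : Set G) :=
    PLocal.le_centralizer_of_sup_fixed (p := 2) (PLocal.elemAb_mono hF.elem inf_le_left) hAU
      (fun a ha => by
        obtain ⟨k, hk⟩ := hA2 ⟨a, ha⟩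
        refine ⟨k, ?_⟩
        rw [show a ^ 2 ^ k = 1 from congrArg Subtype.val hk]
        exact one_mem _) hUS
  refine ⟨hmax, hab, fun a ha => mem_centralizer_iff.2 fun v hv => ?_⟩
  have hle : V ≤ centralizer {a ^ 2} := hdec ▸ sup_le
    (fun u hu => mem_centralizer_singleton_iff.2
      (mem_centralizer_iff.1 (hAcU (A.pow_mem ha 2)) u hu))
    (hMP.trans (iSup_le fun i w hw => mem_centralizer_singleton_iff.2
      (mem_centralizer_iff.1 (hsq a ha i) w hw)))
  exact mem_centralizer_singleton_iff.1 (hle hv)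

end Cfsg.Agent.FFPair
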