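import Cfsg.Agent.Lib.FFPair.Factors
import Cfsg.Agent.Lib.PLocal.Offender
import Cfsg.Agent.Lib.PLocal.Omega
import Cfsg.Agent.Lib.Solvable.PiSeparable
import Cfsg.Agent.Lib.Solvable.Fitting

/-!
# The faithful model of `G / C(V)` and failure of Thompson factorisation

* `IsModel`, `exists_model`: `V ⋊ G / C(V)`
* `IsModel.isFF`: the image of a normal subgroup generated by best offenders
* `zSup`: the join of the `Ω₁(Z(S))`; `zSup_props`
-/

open Subgroup
open scoped commutatorElement

namespace Cfsg.Agent.FFPair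

universe u

variable {G : Type u} [Group G] {p : ℕ}

/-- `ι` is the action of `G` on `V` inside `X`, faithful on the image `U` of `V`. -/
structure IsModel (V : Subgroup G) {X : Type u} [Group X] (U : Subgroup X) (ι : G →* X) (j : V →* X) :
    Prop where
  inj : Function.Injective j
  range : j.range = U
  mem : ∀ g : G, ι g ∈ normalizer (U : Set X)
  conj : ∀ (g : G) (v v' : V), (v' : G) = g * v * g⁻¹ → ι g * j v * (ι g)⁻¹ = j v'
  ker : ι.ker = centralizer (V : Set G)
  faith : ι.range ⊓ centralizer (U : Set X) = ⊥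

theorem exists_model [Finite G] (V : Subgroup G) [V.Normal] :
    ∃ (X : Type u) (_ : Group X) (_ : Finite X) (U : Subgroup X) (ι : G →* X) (j : V →* X),
      IsModel V U ι j := by
  set C := centralizer (V : Set G)
  have hker : ∀ {g : G}, g ∈ (MulAut.conjNormal : G →* MulAut V).ker ↔ g ∈ C := by
    intro g
    constructor
    · intro hg
      refine mem_centralizer_iff.2 fun v hv => ?_
      have h := congrArg (fun α : MulAut V => ((α ⟨v, hv⟩ : V) : G)) (MonoidHom.mem_ker.1 hg)
      simp only [MulAut.conjNormal_apply, MulAut.one_apply] at h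
      exact (mul_inv_eq_iff_eq_mul.1 h).symm
    · intro hg
      refine MonoidHom.mem_ker.2 (MulEquiv.ext fun v => Subtype.ext ?_)
      simp only [MulAut.conjNormal_apply, MulAut.one_apply]
      rw [← mem_centralizer_iff.1 hg v v.2, mul_inv_cancel_right]
  set φ : G ⧸ C →* MulAut V := QuotientGroup.lift C MulAut.conjNormal fun g hg => hker.2 hg
  let X := SemidirectProduct V (G ⧸ C) φ
  haveI : Finite X := Finite.of_equiv _ SemidirectProduct.equivProd.symm
  let ι : G →* X := (SemidirectProduct.inr : G ⧸ C →* X).comp (QuotientGroup.mk' C)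
  let j : V →* X := SemidirectProduct.inl
  have hconj : ∀ (g : G) (v v' : V), (v' : G) = g * v * g⁻¹ → ι g * j v * (ι g)⁻¹ = j v' := by
    intro g v v' h
    have h' : v' = MulAut.conjNormal g v := Subtype.ext (by rw [h, MulAut.conjNormal_apply])
    rw [h', ← map_inv]
    exact (SemidirectProduct.inl_aut (φ := φ) (QuotientGroup.mk g) v).symm
  have hker' : ι.ker = C := by
    show ((SemidirectProduct.inr : G ⧸ C →* X).comp (QuotientGroup.mk' C)).ker = C
    rw [MonoidHom.ker_comp_of_injective _ _ SemidirectProduct.inr_injective, QuotientGroup.ker_mk']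
  refine ⟨X, inferInstance, inferInstance, j.range, ι, j,
    SemidirectProduct.inl_injective, rfl, fun g => ?_, hconj, hker', ?_⟩
  · refine Coprime.mem_normalizer_of_forall ?_
    rintro _ ⟨v, rfl⟩
    exact ⟨⟨g * v * g⁻¹, (inferInstance : V.Normal).conj_mem _ v.2 g⟩, (hconj g v _ rfl).symm⟩
  · rw [eq_bot_iff]
    rintro _ ⟨⟨g, rfl⟩, hg⟩
    have : g ∈ ι.ker := by
      rw [hker']
      refine mem_centralizer_iff.2 fun v hv => ?_
      have h1 : j ⟨v, hv⟩ * ι g = ι g * j ⟨v, hv⟩ := mem_centralizer_iff.1 hg _ ⟨_, rfl⟩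
      have h2 := hconj g ⟨v, hv⟩ ⟨g * v * g⁻¹, (inferInstance : V.Normal).conj_mem _ hv g⟩ rfl
      rw [← h1, mul_inv_cancel_right] at h2
      have h3 : v = g * v * g⁻¹ := congrArg Subtype.val (SemidirectProduct.inl_injective h2)
      exact eq_mul_inv_iff_mul_eq.1 h3
    exact mem_bot.2 (MonoidHom.mem_ker.1 this)

variable {X : Type u} [Group X] {V : Subgroup G} {U : Subgroup X} {ι : G →* X} {j : V →* X}

theorem IsModel.le_normalizer (h : IsModel V U ι j) (A : Subgroup G) : A.map ι ≤ normalizer (U : Set X) := by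
  rintro _ ⟨a, -, rfl⟩
  exact h.mem a

theorem IsModel.elemAb (h : IsModel V U ι j) (hV : Cfsg.IsElementaryAbelian p V) :
    Cfsg.IsElementaryAbelian p U := by
  rw [← h.range]
  refine ⟨⟨⟨?_⟩⟩, ?_⟩
  · rintro ⟨_, v, rfl⟩ ⟨_, w, rfl⟩
    refine Subtype.ext ?_
    show j v * j w = j w * j v
    rw [← map_mul, ← map_mul]
    exact congrArg j (Subtype.ext (PLocal.elemAb_comm hV v.2 w.2))
  · rintro _ ⟨v, rfl⟩
    rw [← map_pow]
    exact (congrArg j (Subtype.ext (hV.2 _ v.2) : v ^ p = 1)).trans (map_one j)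

theorem IsModel.fixed (h : IsModel V U ι j) (B : Subgroup G) [V.Normal] :
    U ⊓ centralizer ((B.map ι : Subgroup X) : Set X) =
      ((V ⊓ centralizer (B : Set G)).subgroupOf V).map j := by
  refine le_antisymm ?_ ?_
  · rintro x ⟨hx, hxC⟩
    rw [← h.range] at hx
    obtain ⟨v, rfl⟩ := hx
    refine ⟨v, ⟨v.2, mem_centralizer_iff.2 fun b hb => ?_⟩, rfl⟩
    have h1 : ι b * j v = j v * ι b := mem_centralizer_iff.1 hxC _ ⟨b, hb, rfl⟩
    have h2 := h.conj b v ⟨b * v * b⁻¹, (inferInstance : V.Normal).conj_mem _ v.2 b⟩ rfl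
    rw [h1, mul_inv_cancel_right] at h2
    have h3 : (v : G) = b * v * b⁻¹ := congrArg Subtype.val (h.inj h2)
    exact (eq_mul_inv_iff_mul_eq.1 h3).symm
  · rintro _ ⟨v, hv, rfl⟩
    refine ⟨h.range ▸ ⟨v, rfl⟩, mem_centralizer_iff.2 ?_⟩
    rintro _ ⟨b, hb, rfl⟩
    have hb' : b * (v : G) = v * b := mem_centralizer_iff.1 hv.2 b hb
    exact mul_inv_eq_iff_eq_mul.1 (h.conj b v v (by rw [hb', mul_inv_cancel_right]))

theorem IsModel.card_fixed (h : IsModel V U ι j) (B : Subgroup G) [V.Normal] :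
    Nat.card ↥(U ⊓ centralizer ((B.map ι : Subgroup X) : Set X)) =
      Nat.card ↥(V ⊓ centralizer (B : Set G)) := by
  rw [h.fixed B, card_map_of_injective h.inj]
  exact Nat.card_congr (subgroupOfEquivOfLe inf_le_left).toEquiv

theorem IsModel.map_eq_bot (h : IsModel V U ι j) {A : Subgroup G} :
    A.map ι = ⊥ ↔ A ≤ centralizer (V : Set G) := by
  rw [Subgroup.map_eq_bot_iff, h.ker]

theorem card_map_mul [Finite G] (f : G →* X) (B : Subgroup G) :
    Nat.card ↥(B.map f) * Nat.card ↥(B ⊓ f.ker) = Nat.card B := by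
  have h1 := (f.comp B.subtype).ker.card_mul_index
  rw [Subgroup.index_ker] at h1
  have h2 : (f.comp B.subtype).range = B.map f := by
    rw [MonoidHom.range_comp, Subgroup.range_subtype]
  have h3 : Nat.card (f.comp B.subtype).ker = Nat.card ↥(B ⊓ f.ker) := by
    rw [← card_map_of_injective (K := (f.comp B.subtype).ker) B.subtype_injective]
    rw [← MonoidHom.comap_ker]
    show Nat.card ↥((f.ker.subgroupOf B).map B.subtype) = _
    rw [Subgroup.subgroupOf_map_subtype, inf_comm]
  rw [h2, h3, mul_comm] at h1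
  exact h1

theorem IsModel.best [Finite G] (h : IsModel V U ι j) [V.Normal] {A : Subgroup G}
    (hA : Cfsg.IsBestOffenderOn p V A) : Cfsg.IsBestOffenderOn p U (A.map ι) := by
  have hcent : ∀ {g : G}, g ∈ centralizer (V : Set G) → ι g ∈ centralizer (U : Set X) := fun hg => by
    rw [← h.ker, MonoidHom.mem_ker] at hg
    rw [hg]; exact one_mem _
  refine ⟨fun B' hB' => ?_, ?_, ?_⟩
  · set B := A ⊓ B'.comap ι
    have hBmap : B.map ι = B' := le_antisymm (map_le_iff_le_comap.2 inf_le_right) fun y hy => by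
      obtain ⟨a, ha, rfl⟩ := hB' hy
      exact ⟨a, ⟨ha, hy⟩, rfl⟩
    have hk : B ⊓ ι.ker = A ⊓ ι.ker := le_antisymm (inf_le_inf_right _ inf_le_left) fun x hx =>
      ⟨⟨hx.1, by show ι x ∈ B'; rw [MonoidHom.mem_ker.1 hx.2]; exact one_mem _⟩, hx.2⟩
    rw [← hBmap, h.card_fixed B, h.card_fixed A]
    have h1 := hA.1 B inf_le_left
    rw [← card_map_mul ι B, ← card_map_mul ι A, hk] at h1
    refine Nat.le_of_mul_le_mul_left ?_ (Nat.card_pos (α := (A ⊓ ι.ker : Subgroup G)))
    calc _ = Nat.card ↥(B.map ι) * Nat.card ↥(A ⊓ ι.ker) * Nat.card ↥(V ⊓ centralizer (B : Set G)) := by ring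
      _ ≤ _ := h1
      _ = _ := by ring
  · rw [← Subgroup.map_commutator]
    rintro _ ⟨c, hc, rfl⟩
    exact hcent (hA.2.1 hc)
  · rintro _ ⟨a, ha, rfl⟩
    rw [← map_pow]
    exact hcent (hA.2.2 a ha)

theorem IsModel.isFF [Finite G] [Finite X] [hp : Fact p.Prime] (h : IsModel V U ι j) [V.Normal]
    (hV : Cfsg.IsElementaryAbelian p V) (hsep : Solvable.IsPiSeparable {p} G)
    (hO : Cfsg.pCore p (G ⧸ centralizer (V : Set G)) = ⊥) {J : Subgroup G} [J.Normal] :
    IsFF p U (J.map ι) ((Cfsg.pPrimeCore p ↥(J.map ι)).map (J.map ι).subtype) := by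
  set H := J.map ι
  have hHR : H ≤ ι.range := map_le_range ι J
  refine isFF_pPrimeCore (h.elemAb hV) (h.le_normalizer J)
    (le_bot_iff.1 ((inf_le_inf_right _ hHR).trans h.faith.le)) ?_
  have hRpc : Cfsg.pCore p ι.range = ⊥ := by
    let e : ι.range ≃* G ⧸ centralizer (V : Set G) :=
      (QuotientGroup.quotientKerEquivRange ι).symm.trans (QuotientGroup.quotientMulEquivOfEq h.ker)
    have h1 := Cores.pCore_map_mulEquiv e p
    rw [hO, map_eq_bot_iff_of_injective _ e.injective] at h1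
    exact h1
  have hHn : (H.subgroupOf ι.range).Normal := by
    refine ⟨?_⟩
    rintro ⟨_, b, rfl⟩ ⟨a, ha, hab⟩ ⟨_, c, rfl⟩
    refine ⟨c * a * c⁻¹, (inferInstance : J.Normal).conj_mem a ha c, ?_⟩
    show ι (c * a * c⁻¹) = ι c * ι b * (ι c)⁻¹
    rw [map_mul, map_mul, map_inv, show ι a = ι b from hab]
  have hHpc : Cfsg.pCore p H = ⊥ := by
    have h1 := Cores.pCore_map_subtype (H.subgroupOf ι.range) p
    rw [hRpc, bot_inf_eq, map_eq_bot_iff_of_injective _ (subtype_injective _)] at h1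
    have h2 := Cores.pCore_map_mulEquiv (subgroupOfEquivOfLe hHR) p
    rw [h1, Subgroup.map_bot] at h2
    exact h2.symm
  have hHsep : Solvable.IsPiSeparable {p} H :=
    (hsep.subgroup J).of_surjective (ι.subgroupMap J) (ι.subgroupMap_surjective J)
  have h3 := Solvable.centralizer_piCore_le hHsep.compl
    (by rw [compl_compl, ← Cores.pCore_eq_piCore]; exact hHpc)
  rwa [Solvable.piCore_compl_singleton_eq_pPrimeCore] at h3

theorem IsModel.gen [Finite G] (h : IsModel V U ι j) [V.Normal] {J : Subgroup G} {S : Set (Subgroup G)}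
    (hJ : J = sSup S) (hS : ∀ A ∈ S, Cfsg.IsBestOffenderOn p V A) :
    J.map ι = ⨆ A : {A : Subgroup X // A ≤ J.map ι ∧ Cfsg.IsBestOffenderOn p U A}, (A : Subgroup X) := by
  refine le_antisymm ?_ (iSup_le fun A => A.2.1)
  nth_rw 1 [hJ]
  rw [PLocal.map_sSup_eq]
  refine sSup_le ?_
  rintro _ ⟨A, hA, rfl⟩
  exact le_iSup_of_le ⟨A.map ι, map_mono (hJ ▸ le_sSup hA), h.best (hS A hA)⟩ le_rfl

/-! ### The join of the `Ω₁(Z(S))` -/

/-- The subgroup generated by all `Ω₁(Z(S))`. -/
def zSup (p : ℕ) (G : Type u) [Group G] : Subgroup G :=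
  ⨆ S : Sylow p G, Cfsg.omegaOne p (((S : Subgroup G)) ⊓ centralizer ((S : Subgroup G) : Set G))

theorem zSup_normal [Finite G] [Fact p.Prime] : (zSup p G).Normal := by
  refine normalizer_eq_top_iff.1 (top_le_iff.1 fun g _ => ?_)
  rw [PLocal.mem_normalizer_iff_map_eq, zSup, Subgroup.map_iSup]
  have hstep : ∀ S : Sylow p G,
      (Cfsg.omegaOne p (((S : Subgroup G)) ⊓ centralizer ((S : Subgroup G) : Set G))).map
        (MulAut.conj g).toMonoidHom =
      Cfsg.omegaOne p (((g • S : Sylow p G) : Subgroup G) ⊓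
        centralizer (((g • S : Sylow p G) : Subgroup G) : Set G)) := fun S => by
    have hi := (MulAut.conj g).injective
    rw [PLocal.map_omegaOne _ hi.injOn, PLocal.map_centralizer_inf _ hi.injOn le_rfl]
    rfl
  simp only [hstep]
  exact (MulAction.toPerm g).iSup_comp (g := fun S : Sylow p G =>
    Cfsg.omegaOne p (((S : Subgroup G)) ⊓ centralizer ((S : Subgroup G) : Set G)))

theorem omega_le_pCore [Finite G] [Fact p.Prime] (hsep : Solvable.IsPiSeparable {p} G)
    (hO : Cfsg.pPrimeCore p G = ⊥) (S : Sylow p G) :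
    Cfsg.omegaOne p (((S : Subgroup G)) ⊓ centralizer ((S : Subgroup G) : Set G)) ≤
      Cfsg.pCore p G ⊓ centralizer (Cfsg.pCore p G : Set G) := by
  have h : Cfsg.omegaOne p (((S : Subgroup G)) ⊓ centralizer ((S : Subgroup G) : Set G)) ≤
      centralizer (Cfsg.pCore p G : Set G) :=
    ((PLocal.omegaOne_le _).trans inf_le_right).trans
      (centralizer_le (SetLike.coe_subset_coe.2 (Cores.pCore_le_sylow S)))
  exact le_inf (h.trans (Solvable.centralizer_pCore_le hsep hO)) h

theorem zSup_props [Finite G] [Fact p.Prime] (hsep : Solvable.IsPiSeparable {p} G)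
    (hO : Cfsg.pPrimeCore p G = ⊥) :
    Cfsg.IsElementaryAbelian p (zSup p G) ∧ (∀ S : Sylow p G, zSup p G ≤ (S : Subgroup G)) ∧
      ∀ (_ : (centralizer (zSup p G : Set G)).Normal),
        Cfsg.pCore p (G ⧸ centralizer (zSup p G : Set G)) = ⊥ := by
  have hle := omega_le_pCore hsep hO
  have hZ : Cfsg.IsElementaryAbelian p (zSup p G) := by
    refine PLocal.elemAb_iSup _ (fun S => PLocal.omegaOne_elemAb
      (inf_le_right.trans (centralizer_le inf_le_left))) fun S T => ?_
    exact ((hle S).trans inf_le_left).trans (PLocal.le_centralizer_comm ((hle T).trans inf_le_right))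
  refine ⟨hZ, fun S => ?_, fun hn => ?_⟩
  · exact iSup_le fun T => ((hle T).trans inf_le_left).trans (Cores.pCore_le_sylow S)
  set C := centralizer (zSup p G : Set G)
  set f := QuotientGroup.mk' C
  set D := (Cfsg.pCore p (G ⧸ C)).comap f
  have hDC : D ≤ C := by
    refine PLocal.le_centralizer_comm (iSup_le fun S => ?_)
    refine PLocal.le_centralizer_comm fun d hd => ?_
    -- `D = C (S ∩ D)`
    have hSD : f d ∈ (S : Subgroup G).map f := by
      have h1 : Cfsg.pCore p (G ⧸ C) ≤ (S.mapSurjective (QuotientGroup.mk'_surjective C) : Subgroup (G ⧸ C)) :=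
        Cores.pCore_le_sylow _
      rw [Sylow.coe_mapSurjective] at h1
      exact h1 hd
    obtain ⟨s, hs, hsd⟩ := hSD
    have hc : s⁻¹ * d ∈ C := (QuotientGroup.eq).1 hsd
    have h2 : d = s * (s⁻¹ * d) := by group
    rw [h2]
    refine mul_mem ?_ (centralizer_le (SetLike.coe_subset_coe.2 ?_) hc)
    · exact PLocal.le_centralizer_comm ((PLocal.omegaOne_le _).trans inf_le_right) hs
    · exact le_iSup (fun S : Sylow p G =>
        Cfsg.omegaOne p (((S : Subgroup G)) ⊓ centralizer ((S : Subgroup G) : Set G))) S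
  rw [← Subgroup.map_comap_eq_self_of_surjective (QuotientGroup.mk'_surjective C) (Cfsg.pCore p (G ⧸ C)),
    Subgroup.map_eq_bot_iff, QuotientGroup.ker_mk']
  exact hDC

end Cfsg.Agent.FFPair
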