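import Cfsg.Agent.Lib.FFPair.AbelianOffender
import Cfsg.Agent.Lib.FFPair.Model

/-!
# Abelian subgroups of largest order and failure of factorisation

* `maxIn_abelian_value`: a member of `maxIn abelian S` maximises `|B| |C_V(B)|` for an abelian `V ≤ S`
* `IsModel.map_value`: that property passes to the model
* `nonempty_pi_equiv`: a group generated by best offenders is a power of `SL₂(p)`
-/

open Subgroup
open scoped commutatorElement

namespace Cfsg.Agent.FFPair

universe u

variable {G : Type u} [Group G]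

theorem maxIn_abelian_value [Finite G] {S A V : Subgroup G} (hA : A ∈ PLocal.maxIn PLocal.abelian S)
    (hVc : V ≤ centralizer (V : Set G)) (hVS : V ≤ S) {B : Subgroup G} (hB : B ≤ A) :
    Nat.card B * Nat.card ↥(V ⊓ centralizer (B : Set G)) ≤
      Nat.card A * Nat.card ↥(V ⊓ centralizer (A : Set G)) := by
  have hAc : A ≤ centralizer (A : Set G) := le_centralizer_iff_isMulCommutative.2 hA.2.1
  set C := V ⊓ centralizer (B : Set G)
  have hBC : B ≤ centralizer (C : Set G) := le_centralizer_iff.1 inf_le_right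
  have hsup : PLocal.abelian (B ⊔ C) := le_centralizer_iff_isMulCommutative.1 (by
    rw [PLocal.centralizer_sup]
    exact sup_le (le_inf (hB.trans (hAc.trans (centralizer_le hB))) hBC)
      (le_inf inf_le_right ((inf_le_left.trans hVc).trans (centralizer_le inf_le_left))))
  have h1 : Nat.card ↥(B ⊔ C) ≤ Nat.card A :=
    PLocal.maxIn_card hA (sup_le (hB.trans hA.1) (inf_le_left.trans hVS)) hsup
  have h2 : Nat.card ↥(B ⊓ C) ≤ Nat.card ↥(V ⊓ centralizer (A : Set G)) :=
    PLocal.card_le_of_le fun x hx => ⟨hx.2.1, hAc (hB hx.1)⟩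
  rw [← PLocal.card_sup_mul_card_inf (H := B) (K := C) (inf_le_right.trans (centralizer_le_normalizer _))]
  exact Nat.mul_le_mul h1 h2

variable {X : Type u} [Group X] {V : Subgroup G} {U : Subgroup X} {ι : G →* X} {j : V →* X}

theorem IsModel.map_value [Finite G] (h : IsModel V U ι j) [V.Normal] {A : Subgroup G}
    (hA : ∀ B : Subgroup G, B ≤ A → Nat.card B * Nat.card ↥(V ⊓ centralizer (B : Set G)) ≤
      Nat.card A * Nat.card ↥(V ⊓ centralizer (A : Set G))) {B' : Subgroup X} (hB' : B' ≤ A.map ι) :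
    Nat.card B' * Nat.card ↥(U ⊓ centralizer (B' : Set X)) ≤
      Nat.card ↥(A.map ι) * Nat.card ↥(U ⊓ centralizer ((A.map ι : Subgroup X) : Set X)) := by
  set B := A ⊓ B'.comap ι
  have hBmap : B.map ι = B' := le_antisymm (map_le_iff_le_comap.2 inf_le_right) fun y hy => by
    obtain ⟨a, ha, rfl⟩ := hB' hy
    exact ⟨a, ⟨ha, hy⟩, rfl⟩
  have hk : B ⊓ ι.ker = A ⊓ ι.ker := le_antisymm (inf_le_inf_right _ inf_le_left) fun x hx =>
    ⟨⟨hx.1, by show ι x ∈ B'; rw [MonoidHom.mem_ker.1 hx.2]; exact one_mem _⟩, hx.2⟩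
  rw [← hBmap, h.card_fixed B, h.card_fixed A]
  have h1 := hA B inf_le_left
  rw [← card_map_mul ι B, ← card_map_mul ι A, hk] at h1
  refine Nat.le_of_mul_le_mul_left ?_ (Nat.card_pos (α := (A ⊓ ι.ker : Subgroup G)))
  calc _ = Nat.card ↥(B.map ι) * Nat.card ↥(A ⊓ ι.ker) * Nat.card ↥(V ⊓ centralizer (B : Set G)) := by ring
    _ ≤ _ := h1
    _ = _ := by ring

/-- A product decomposition into isomorphic normal independent subgroups. -/
theorem nonempty_pi_equiv {M : Type*} [Group M] {H : Type*} [Group H] {S : Type*} [Finite S]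
    (E : S → Subgroup H) (K : Subgroup H) (hn : ∀ i, K ≤ normalizer (E i : Set H))
    (hind : iSupIndep E) (hsup : ⨆ i, E i = K) (e : ∀ i, Nonempty (E i ≃* M)) :
    Nonempty (↥K ≃* (Fin (Nat.card S) → M)) := by
  classical
  haveI : Fintype S := Fintype.ofFinite S
  have hcomm : Pairwise fun i j => ∀ x y : H, x ∈ E i → y ∈ E j → Commute x y := by
    intro i j hij x y hx hy
    have hiK : ∀ {i}, E i ≤ K := fun {i} => hsup ▸ le_iSup E i
    have h : ⁅x, y⁆ ∈ E i ⊓ E j :=
      ⟨le_normalizer_iff_commutator_le_left.1 (hiK.trans (hn i)) (commutator_mem_commutator hx hy),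
        le_normalizer_iff_commutator_le_right.1 (hiK.trans (hn j)) (commutator_mem_commutator hx hy)⟩
    rw [(hind.pairwiseDisjoint hij).eq_bot, mem_bot] at h
    exact commutatorElement_eq_one_iff_mul_comm.1 h
  refine ⟨(((MonoidHom.ofInjective (injective_noncommPiCoprod_of_iSupIndep (hcomm := hcomm) hind)).trans
    (MulEquiv.subgroupCongr ((noncommPiCoprod_range (hcomm := hcomm)).trans hsup))).symm.trans
      (MulEquiv.piCongrRight fun i => (e i).some)).trans ?_⟩
  exact MulEquiv.arrowCongr ((Finite.equivFin S)) (MulEquiv.refl M)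

end Cfsg.Agent.FFPair
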