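import Cfsg.Agent.Lib.PLocal.Replacement
import Cfsg.Agent.Lib.Coprime.Generation
import Cfsg.Agent.Lib.Coprime.PQ
import Cfsg.Agent.Lib.Cores.Basic

/-!
# Best offenders of a group acting faithfully with self-centralising p'-core

`IsFF p V H K`: `H` acts faithfully on the elementary abelian `p`-group `V` and has a normal subgroup `K`
of order prime to `p` with `C_H(K) ≤ K`.

* `IsFF.best_card`: `|A| |C_V(A)| = |V|` for a nontrivial best offender `A`
* `IsTv p V A`: `|A| = p` and `|V : C_V(A)| = p`; `IsFF.tv_of_minimal`, `IsFF.exists_tv_basis`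
-/

open Subgroup
open scoped commutatorElement

namespace Cfsg.Agent.FFPair

variable {G : Type*} [Group G]

/-- A group `H` acting faithfully on `V` with a self-centralising normal subgroup `K` of order prime to `p`. -/
structure IsFF (p : ℕ) (V H K : Subgroup G) : Prop where
  elem : Cfsg.IsElementaryAbelian p V
  norm : H ≤ normalizer (V : Set G)
  faith : H ⊓ centralizer (V : Set G) = ⊥
  le : K ≤ H
  normK : H ≤ normalizer (K : Set G)
  cop : (Nat.card K).Coprime p
  self : H ⊓ centralizer (K : Set G) ≤ K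

/-- A subgroup of order `p` centralising a hyperplane of `V`. -/
def IsTv (p : ℕ) (V A : Subgroup G) : Prop :=
  Nat.card A = p ∧ (V ⊓ centralizer (A : Set G)).relIndex V = p

variable {p : ℕ} {V H K A B : Subgroup G}

/-- The commutator of two elements normalising `V` lies in a subgroup centralising what both centralise. -/
theorem commute_commutator {x a v : G} (hx : x * v = v * x) (ha : a * v = v * a) :
    ⁅x, a⁆ * v = v * ⁅x, a⁆ := by
  have h1 : Commute x v := hx
  have h2 : Commute a v := ha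
  rw [commutatorElement_def]
  exact (((h1.mul_left h2).mul_left h1.inv_left).mul_left h2.inv_left).eq

theorem IsFF.mem_of_centralizes (hF : IsFF p V H K) {x : G} (hx : x ∈ H)
    (h : x ∈ centralizer (V : Set G)) : x = 1 := mem_bot.1 (hF.faith ▸ ⟨hx, h⟩)

theorem IsFF.elemAb_of_best (hF : IsFF p V H K) (hA : A ≤ H) (hb : Cfsg.IsBestOffenderOn p V A) :
    Cfsg.IsElementaryAbelian p A := by
  refine ⟨⟨⟨fun a b => Subtype.ext ?_⟩⟩, fun a ha => hF.mem_of_centralizes (H.pow_mem (hA ha) p) (hb.2.2 a ha)⟩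
  have h := hF.mem_of_centralizes
    (Subgroup.commutator_le.2 (fun x hx y hy => H.mul_mem (H.mul_mem (H.mul_mem (hA hx) (hA hy))
      (H.inv_mem (hA hx))) (H.inv_mem (hA hy))) (commutator_mem_commutator a.2 b.2))
    (hb.2.1 (commutator_mem_commutator a.2 b.2))
  exact commutatorElement_eq_one_iff_mul_comm.1 h

theorem best_bot : Cfsg.IsBestOffenderOn p V (⊥ : Subgroup G) :=
  ⟨fun B hB => by rw [le_bot_iff.1 hB], by rw [commutator_bot_left]; exact bot_le,
    fun a ha => by rw [mem_bot.1 ha, one_pow]; exact one_mem _⟩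

theorem fx_bot : V ⊓ centralizer ((⊥ : Subgroup G) : Set G) = V :=
  inf_eq_left.2 fun v _ => mem_centralizer_iff.2 fun x hx => by rw [mem_bot.1 hx, one_mul, mul_one]

variable [Finite G]

theorem isPGroup_V [Fact p.Prime] (hF : IsFF p V H K) : IsPGroup p V := PLocal.elemAb_isPGroup hF.elem

theorem card_fx_mul_relIndex (A : Subgroup G) :
    Nat.card ↥(V ⊓ centralizer (A : Set G)) * (V ⊓ centralizer (A : Set G)).relIndex V = Nat.card V := by
  rw [← relIndex_bot_left, ← relIndex_bot_left, relIndex_mul_relIndex ⊥ _ V bot_le inf_le_left]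

theorem IsTv.card_mul (h : IsTv p V A) :
    Nat.card A * Nat.card ↥(V ⊓ centralizer (A : Set G)) = Nat.card V := by
  rw [h.1, mul_comm, ← h.2]
  exact card_fx_mul_relIndex A

theorem IsTv.ne_bot [hp : Fact p.Prime] (h : IsTv p V A) : A ≠ ⊥ := by
  intro h0
  have := h.1
  rw [h0, card_bot] at this
  exact hp.out.ne_one this.symm

theorem IsTv.elemAb [hp : Fact p.Prime] (h : IsTv p V A) : Cfsg.IsElementaryAbelian p A := by
  have : IsCyclic A := isCyclic_of_prime_card h.1
  exact ⟨⟨⟨IsCyclic.commGroup.mul_comm⟩⟩, fun a ha => by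
    have := congrArg Subtype.val (pow_card_eq_one' (x := (⟨a, ha⟩ : A)))
    rwa [h.1] at this⟩

theorem IsTv.eq_bot_or_self [hp : Fact p.Prime] (h : IsTv p V A) (hB : B ≤ A) : B = ⊥ ∨ B = A := by
  rcases (Nat.dvd_prime hp.out).1 (h.1 ▸ card_dvd_of_le hB) with h1 | h1
  · exact Or.inl (card_eq_one.1 h1)
  · exact Or.inr (eq_of_le_of_card_ge hB (h.1.trans h1.symm).le)

theorem IsTv.best [hp : Fact p.Prime] (h : IsTv p V A) : Cfsg.IsBestOffenderOn p V A := by
  refine ⟨fun B hB => ?_, ?_, fun a ha => ?_⟩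
  · rcases h.eq_bot_or_self hB with rfl | rfl
    · rw [card_bot, fx_bot, one_mul, h.card_mul]
    · exact le_rfl
  · have := h.elemAb.1
    rw [Subgroup.commutator_self_eq_bot_iff.2 this]
    exact bot_le
  · rw [h.elemAb.2 a ha]
    exact one_mem _

theorem IsTv.not_centralize [hp : Fact p.Prime] (h : IsTv p V A) : ⁅V, A⁆ ≠ ⊥ := by
  intro h0
  have h2 := h.2
  rw [inf_eq_left.2 (commutator_eq_bot_iff_le_centralizer.1 h0), relIndex_self] at h2
  exact hp.out.ne_one h2.symm

/-- A nontrivial best offender has a hyperplane which is a best offender of the same value and centralises an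
element of `K` not centralising it, which can be chosen outside a given subgroup. -/
theorem IsFF.exists_hyperplane [hp : Fact p.Prime] (hF : IsFF p V H K) (hA : A ≤ H)
    (hb : Cfsg.IsBestOffenderOn p V A) {W : Subgroup G} (hKW : ¬ K ≤ W)
    (hW : K ⊓ centralizer (A : Set G) ≤ W) :
    ∃ B ≤ A, Cfsg.IsBestOffenderOn p V B ∧ Nat.card A = p * Nat.card B ∧
      Nat.card B * Nat.card ↥(V ⊓ centralizer (B : Set G)) =
        Nat.card A * Nat.card ↥(V ⊓ centralizer (A : Set G)) ∧
      ∃ x ∈ K, x ∈ centralizer (B : Set G) ∧ x ∉ centralizer (A : Set G) ∧ x ∉ W := by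
  have hAe := hF.elemAb_of_best hA hb
  have hAK : A ≤ normalizer (K : Set G) := hA.trans hF.normK
  have hAV : A ≤ normalizer (V : Set G) := hA.trans hF.norm
  have hpA : IsPGroup p A := PLocal.elemAb_isPGroup hAe
  have hcop : (Nat.card A).Coprime (Nat.card K) := by
    obtain ⟨n, hn⟩ := IsPGroup.iff_card.1 hpA
    rw [hn]
    exact hF.cop.symm.pow_left n
  have := hAe.1
  obtain ⟨B, hBA, ⟨g, hg, hgle⟩, hBW⟩ : ∃ B ≤ A, (∃ g ∈ A, A ≤ B ⊔ zpowers g) ∧
      ¬ K ⊓ centralizer (B : Set G) ≤ W := by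
    by_contra! h
    exact hKW (Coprime.le_of_cyclic_quotient hAK hcop fun B hB hc => h B hB hc)
  obtain ⟨x, ⟨hxK, hxB⟩, hxW⟩ := Set.not_subset.1 hBW
  have hxA : x ∉ centralizer (A : Set G) := fun h => hxW (hW ⟨hxK, h⟩)
  -- the index of `B`
  have hne : B ≠ A := fun e => hxA (e ▸ hxB)
  have hrel : B.relIndex A = p := by
    have h1 := Coprime.relIndex_le_of_cyclic_quotient hp.out hAe.2 hBA hg hgle
    obtain ⟨n, hn⟩ := IsPGroup.iff_card.1 hpA
    obtain ⟨i, -, hi⟩ := (Nat.dvd_prime_pow hp.out).1 (hn ▸ relIndex_dvd_card B A)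
    have hi0 : i ≠ 0 := by
      rintro rfl
      exact hne (le_antisymm hBA (relIndex_eq_one.1 (by rw [hi, pow_zero])))
    refine le_antisymm h1 (hi ▸ ?_)
    exact Nat.le_self_pow hi0 p
  have hcard : Nat.card A = p * Nat.card B := by
    rw [← hrel, ← relIndex_bot_left, ← relIndex_bot_left, mul_comm,
      relIndex_mul_relIndex ⊥ B A bot_le hBA]
  -- the fixed points of `B`
  have hle : V ⊓ centralizer (A : Set G) ≤ V ⊓ centralizer (B : Set G) :=
    inf_le_inf_left V (centralizer_le hBA)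
  have hne2 : V ⊓ centralizer (A : Set G) ≠ V ⊓ centralizer (B : Set G) := by
    intro he
    refine hxA (mem_centralizer_iff.2 fun a ha => ?_)
    have hB' : B ≤ centralizer ((zpowers ⁅x, a⁆ : Subgroup G) : Set G) := by
      rw [le_centralizer_iff, zpowers_le]
      exact mem_centralizer_iff.2 fun b hb' =>
        (commute_commutator (mem_centralizer_iff.1 hxB b hb').symm
          (congrArg Subtype.val (mul_comm' (⟨a, ha⟩ : A) ⟨b, hBA hb'⟩))).symm
    have hyK : ⁅x, a⁆ ∈ K := by
      have h1 := (mem_normalizer_iff.1 (hAK ha) x⁻¹).1 (K.inv_mem hxK)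
      rw [commutatorElement_def]
      have := K.mul_mem hxK h1
      simpa [mul_assoc] using this
    have hfix : V ⊓ centralizer (B : Set G) ≤ centralizer ((zpowers ⁅x, a⁆ : Subgroup G) : Set G) := by
      intro v hv
      refine mem_centralizer_iff.2 ?_
      rintro _ ⟨i, rfl⟩
      refine (Commute.zpow_left ?_ i).eq
      set w := x⁻¹ * v * x with hw
      have hxN : x ∈ normalizer (V : Set G) := hF.norm (hF.le hxK)
      have hwV : w ∈ V ⊓ centralizer (A : Set G) := by
        rw [he]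
        refine ⟨by simpa [hw] using (mem_normalizer_iff.1 (inv_mem hxN) v).1 hv.1,
          mem_centralizer_iff.2 fun b hb' => ?_⟩
        have h1 : Commute b x := mem_centralizer_iff.1 hxB b hb'
        have h2 : Commute b v := mem_centralizer_iff.1 hv.2 b hb'
        exact ((h1.inv_right.mul_right h2).mul_right h1).eq
      have h3 : Commute a v := mem_centralizer_iff.1 (he.ge hv).2 a ha
      have h4 : Commute a w := mem_centralizer_iff.1 hwV.2 a ha
      show ⁅x, a⁆ * v = v * ⁅x, a⁆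
      rw [commutatorElement_def]
      have e1 : x⁻¹ * a⁻¹ * v = x⁻¹ * v * a⁻¹ := by rw [mul_assoc, h3.inv_left.eq, ← mul_assoc]
      have e2 : a * w = w * a := h4.eq
      calc x * a * x⁻¹ * a⁻¹ * v = x * a * (x⁻¹ * a⁻¹ * v) := by group
        _ = x * (a * w) * x⁻¹ * a⁻¹ := by rw [e1, hw]; group
        _ = v * (x * a * x⁻¹ * a⁻¹) := by rw [e2, hw]; group
    have hcopy : (Nat.card (zpowers ⁅x, a⁆)).Coprime p :=
      hF.cop.coprime_dvd_left (card_dvd_of_le (zpowers_le.2 hyK))
    have h5 := Coprime.thompson_pq p (hpA.to_le hBA) hcopy (isPGroup_V hF) hB' (hBA.trans hAV)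
      ((zpowers_le.2 hyK).trans (hF.le.trans hF.norm)) hfix
    have := hF.mem_of_centralizes (hF.le hyK) (h5 (mem_zpowers _))
    exact (commutatorElement_eq_one_iff_mul_comm.1 this).symm
  have hge : p * Nat.card ↥(V ⊓ centralizer (A : Set G)) ≤ Nat.card ↥(V ⊓ centralizer (B : Set G)) := by
    obtain ⟨n, hn⟩ := IsPGroup.iff_card.1 ((isPGroup_V hF).to_le (inf_le_left : V ⊓ centralizer (A : Set G) ≤ V))
    obtain ⟨m, hm⟩ := IsPGroup.iff_card.1 ((isPGroup_V hF).to_le (inf_le_left : V ⊓ centralizer (B : Set G) ≤ V))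
    have hlt : Nat.card ↥(V ⊓ centralizer (A : Set G)) < Nat.card ↥(V ⊓ centralizer (B : Set G)) := by
      by_contra! h
      exact hne2 (eq_of_le_of_card_ge hle h)
    rw [hn, hm] at hlt ⊢
    have : n < m := (Nat.pow_lt_pow_iff_right hp.out.one_lt).1 hlt
    rw [← pow_succ']
    exact Nat.pow_le_pow_right hp.out.pos this
  have hval : Nat.card B * Nat.card ↥(V ⊓ centralizer (B : Set G)) =
      Nat.card A * Nat.card ↥(V ⊓ centralizer (A : Set G)) := by
    refine le_antisymm (hb.1 B hBA) ?_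
    calc Nat.card A * Nat.card ↥(V ⊓ centralizer (A : Set G))
        = Nat.card B * (p * Nat.card ↥(V ⊓ centralizer (A : Set G))) := by rw [hcard]; ring
      _ ≤ _ := Nat.mul_le_mul_left _ hge
  refine ⟨B, hBA, ⟨fun C hC => hval.symm ▸ hb.1 C (hC.trans hBA), ?_, fun b hb' => hb.2.2 b (hBA hb')⟩,
    hcard, hval, x, hxK, hxB, hxA, hxW⟩
  exact (commutator_mono hBA hBA).trans hb.2.1

theorem IsFF.not_le_centralizer [hp : Fact p.Prime] (hF : IsFF p V H K) (hA : A ≤ H)
    (hb : Cfsg.IsBestOffenderOn p V A) (hA1 : A ≠ ⊥) : ¬ K ≤ centralizer (A : Set G) := by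
  intro h
  have hAK : A ≤ K := fun a ha => hF.self ⟨hA ha, le_centralizer_iff.1 h ha⟩
  obtain ⟨n, hn⟩ := IsPGroup.iff_card.1 (PLocal.elemAb_isPGroup (hF.elemAb_of_best hA hb))
  refine hA1 (card_eq_one.1 (hn ▸ (hF.cop.symm.pow_left n).eq_one_of_dvd (hn ▸ card_dvd_of_le hAK)))

/-- A nontrivial best offender `A` satisfies `|A| |C_V(A)| = |V|`. -/
theorem IsFF.best_card [hp : Fact p.Prime] (hF : IsFF p V H K) (hA : A ≤ H)
    (hb : Cfsg.IsBestOffenderOn p V A) (hA1 : A ≠ ⊥) :
    Nat.card A * Nat.card ↥(V ⊓ centralizer (A : Set G)) = Nat.card V := by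
  induction hn : Nat.card A using Nat.strong_induction_on generalizing A with
  | _ n ih =>
  obtain ⟨B, hBA, hBb, hcard, hval, -⟩ :=
    hF.exists_hyperplane hA hb (hF.not_le_centralizer hA hb hA1) inf_le_right
  rw [← hn, ← hval]
  by_cases hB : B = ⊥
  · rw [hB, card_bot, fx_bot, one_mul]
  · refine ih _ ?_ (hBA.trans hA) hBb hB rfl
    rw [← hn, hcard]
    exact lt_mul_left Nat.card_pos hp.out.one_lt

/-- A minimal best offender acting nontrivially has order `p` and centralises a hyperplane. -/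
theorem IsFF.tv_of_minimal [hp : Fact p.Prime] (hF : IsFF p V H K) (hA : A ≤ H)
    (hb : Cfsg.IsBestOffenderOn p V A) (hA1 : A ≠ ⊥)
    (hmin : ∀ B, B ≤ A → Cfsg.IsBestOffenderOn p V B → B ≠ ⊥ → B = A) : IsTv p V A := by
  obtain ⟨B, hBA, hBb, hcard, -, -⟩ :=
    hF.exists_hyperplane hA hb (hF.not_le_centralizer hA hb hA1) inf_le_right
  have hB : B = ⊥ := by
    by_contra hB
    have := hmin B hBA hBb hB
    subst this
    exact (lt_mul_left Nat.card_pos hp.out.one_lt).ne hcard
  rw [hB, card_bot, mul_one] at hcard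
  refine ⟨hcard, ?_⟩
  have h1 := hF.best_card hA hb hA1
  rw [← card_fx_mul_relIndex (V := V) A, hcard, mul_comm] at h1
  exact (Nat.eq_of_mul_eq_mul_left Nat.card_pos h1).symm

/-- A best offender is the independent join of subgroups of order `p` centralising hyperplanes. -/
theorem IsFF.exists_tv_basis [hp : Fact p.Prime] (hF : IsFF p V H K) (hA : A ≤ H)
    (hb : Cfsg.IsBestOffenderOn p V A) :
    ∃ (k : ℕ) (T : Fin k → Subgroup G), (∀ i, T i ≤ A ∧ IsTv p V (T i)) ∧ iSupIndep T ∧ ⨆ i, T i = A := by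
  induction hn : Nat.card A using Nat.strong_induction_on generalizing A with
  | _ n ih =>
  by_cases hA1 : A = ⊥
  · exact ⟨0, Fin.elim0, fun i => i.elim0, fun i => i.elim0, by rw [iSup_of_empty, hA1]⟩
  obtain ⟨B, hBA, hBb, hcard, -, -⟩ :=
    hF.exists_hyperplane hA hb (hF.not_le_centralizer hA hb hA1) inf_le_right
  have hlt : Nat.card B < Nat.card A := hcard ▸ lt_mul_left Nat.card_pos hp.out.one_lt
  by_cases hB : B = ⊥
  · rw [hB, card_bot, mul_one] at hcard
    have hT : IsTv p V A := by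
      refine ⟨hcard, ?_⟩
      have h1 := hF.best_card hA hb hA1
      rw [← card_fx_mul_relIndex (V := V) A, hcard, mul_comm] at h1
      exact (Nat.eq_of_mul_eq_mul_left Nat.card_pos h1).symm
    exact ⟨1, fun _ => A, fun _ => ⟨le_rfl, hT⟩,
      fun i => by simp [Subsingleton.elim _ i, disjoint_iff], iSup_const⟩
  obtain ⟨k, T, hT, hTi, hTs⟩ := ih _ (hn ▸ hlt) (hBA.trans hA) hBb rfl
  -- a second hyperplane
  have hKB : ¬ K ≤ centralizer (B : Set G) := hF.not_le_centralizer (hBA.trans hA) hBb hB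
  obtain ⟨B', hB'A, hB'b, hcard', -, x, hxK, hxB', -, hxW⟩ :=
    hF.exists_hyperplane hA hb (W := centralizer (B : Set G)) hKB
      (inf_le_right.trans (centralizer_le hBA))
  have hlt' : Nat.card B' < Nat.card A := hcard' ▸ lt_mul_left Nat.card_pos hp.out.one_lt
  obtain ⟨k', T', hT', -, hTs'⟩ := ih _ (hn ▸ hlt') (hB'A.trans hA) hB'b rfl
  obtain ⟨j, hj⟩ : ∃ j, ¬ T' j ≤ B := by
    by_contra! h
    have h1 : B' ≤ B := hTs' ▸ iSup_le h
    have h2 : B' = B := eq_of_le_of_card_ge h1 (Nat.eq_of_mul_eq_mul_left hp.out.pos (hcard ▸ hcard')).le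
    exact hxW (h2 ▸ hxB')
  set C := T' j
  have hC : IsTv p V C := (hT' j).2
  have hCA : C ≤ A := (hT' j).1.trans hB'A
  have hdis : C ⊓ B = ⊥ := (hC.eq_bot_or_self inf_le_left).resolve_right
    fun h => hj (h ▸ inf_le_right)
  have hAe := hF.elemAb_of_best hA hb
  have hBC : B ⊔ C = A := by
    refine eq_of_le_of_card_ge (sup_le hBA hCA) ?_
    have h := PLocal.card_sup_mul_card_inf (H := B) (K := C)
      (hCA.trans ((PLocal.elemAb_le_centralizer hAe).trans
        ((centralizer_le hBA).trans (centralizer_le_normalizer _))))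
    rw [inf_comm, hdis, card_bot, mul_one, hC.1, mul_comm] at h
    rw [h, hcard]
  refine ⟨k + 1, Fin.snoc T C, fun i => ?_, ?_, ?_⟩
  · refine Fin.lastCases ?_ (fun i => ?_) i
    · rw [Fin.snoc_last]; exact ⟨hCA, hC⟩
    · rw [Fin.snoc_castSucc]; exact ⟨(hT i).1.trans hBA, (hT i).2⟩
  · have hmul : ∀ {X : Subgroup G}, X ≤ B → ∀ {y}, y ∈ X ⊔ C → ∃ u ∈ X, ∃ c ∈ C, u * c = y := by
      intro X hX y hy
      rw [← SetLike.mem_coe, Subgroup.coe_mul_of_right_le_normalizer_left X C
        (hCA.trans ((PLocal.elemAb_le_centralizer hAe).trans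
          ((centralizer_le (hX.trans hBA)).trans (centralizer_le_normalizer _))))] at hy
      exact Set.mem_mul.1 hy
    intro i
    refine Fin.lastCases ?_ (fun i => ?_) i
    · rw [Fin.snoc_last]
      refine Disjoint.mono_right (iSup₂_le fun m hm => ?_) (disjoint_iff.2 hdis)
      obtain ⟨m', rfl⟩ := Fin.exists_castSucc_eq.2 hm
      rw [Fin.snoc_castSucc]
      exact (hT m').1
    · rw [Fin.snoc_castSucc]
      refine Disjoint.mono_right (c := (⨆ m ≠ i, T m) ⊔ C) (iSup₂_le fun m hm => ?_) ?_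
      · induction m using Fin.lastCases with
        | last => rw [Fin.snoc_last]; exact le_sup_right
        | cast m =>
          rw [Fin.snoc_castSucc]
          exact le_sup_of_le_left (le_iSup₂ (f := fun m (_ : m ≠ i) => T m) m
            fun e => hm (by rw [e]))
      rw [disjoint_iff, eq_bot_iff]
      rintro y ⟨hy1, hy2⟩
      have hXB : (⨆ m ≠ i, T m) ≤ B := iSup₂_le fun m _ => (hT m).1
      obtain ⟨u, hu, c, hc, rfl⟩ := hmul hXB hy2
      have hcB : c ∈ C ⊓ B := ⟨hc, by
        have := B.mul_mem (B.inv_mem (hXB hu)) ((hT i).1 hy1)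
        rwa [inv_mul_cancel_left] at this⟩
      rw [hdis, mem_bot] at hcB
      rw [hcB, mul_one] at hy1 ⊢
      exact (disjoint_iff.1 (hTi i)).le ⟨hy1, hu⟩
  · rw [← hBC, ← hTs]
    refine le_antisymm (iSup_le fun i => ?_) (sup_le (iSup_le fun i => ?_) ?_)
    · refine Fin.lastCases ?_ (fun i => ?_) i
      · rw [Fin.snoc_last]; exact le_sup_right
      · rw [Fin.snoc_castSucc]; exact le_sup_of_le_left (le_iSup T i)
    · exact le_iSup_of_le i.castSucc (le_of_eq (Fin.snoc_castSucc (α := fun _ => Subgroup G) C T i).symm)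
    · exact le_iSup_of_le (Fin.last k) (le_of_eq (Fin.snoc_last (α := fun _ => Subgroup G) C T).symm)

/-- The hypotheses with `K = O_{p'}(H)`. -/
theorem isFF_pPrimeCore [hp : Fact p.Prime] (hV : Cfsg.IsElementaryAbelian p V)
    (hHV : H ≤ normalizer (V : Set G)) (hf : H ⊓ centralizer (V : Set G) = ⊥)
    (hS1 : centralizer (Cfsg.pPrimeCore p ↥H : Set ↥H) ≤ Cfsg.pPrimeCore p ↥H) :
    IsFF p V H ((Cfsg.pPrimeCore p ↥H).map H.subtype) := by
  refine ⟨hV, hHV, hf, map_subtype_le _, fun h hh => ?_, ?_, ?_⟩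
  · refine Coprime.mem_normalizer_of_forall ?_
    rintro _ ⟨x, hx, rfl⟩
    exact ⟨⟨h, hh⟩ * x * ⟨h, hh⟩⁻¹, (Cores.pPrimeCore_normal p H).conj_mem x hx _, rfl⟩
  · rw [card_map_of_injective H.subtype_injective]
    exact Cores.coprime_card_pPrimeCore p
  · rintro x ⟨hxH, hxC⟩
    exact ⟨⟨x, hxH⟩, hS1 (mem_centralizer_iff.2 fun y hy =>
      Subtype.ext (mem_centralizer_iff.1 hxC y ⟨y, hy, rfl⟩)), rfl⟩

theorem IsFF.commutator_eq_bot (hF : IsFF p V H K) (hA : A ≤ H) (h : ⁅V, A⁆ = ⊥) : A = ⊥ :=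
  (eq_bot_iff_forall _).2 fun a ha => hF.mem_of_centralizes (hA ha)
    (le_centralizer_iff.1 (commutator_eq_bot_iff_le_centralizer.1 h) ha)

theorem not_commutator_bot (hA1 : A = ⊥) : ⁅V, A⁆ = ⊥ := by rw [hA1, commutator_bot_right]

end Cfsg.Agent.FFPair
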