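import Cfsg.Agent.Lib.FFPair.Orbit
import Cfsg.Agent.Lib.Coprime.Abelian

/-!
# The diagonal plane

* `IsFF.diag_plane`: a plane of fixed points of `X` on which fixed points of `X` induce `SL₂(p)`
-/

open Subgroup
open scoped IsMulCommutative

namespace Cfsg.Agent.FFPair

variable {G : Type*} [Group G] [Finite G] {p q : ℕ} {V H K A X : Subgroup G}

/-- Averaging a plane over `X` gives an equivalent plane fixed by `X`. -/
theorem IsFF.diag_plane [hp : Fact p.Prime] [hq : Fact q.Prime] (hF : IsFF p V H K) (hA : A ≤ H)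
    (hT : IsTv p V A) (hX : Cfsg.IsElementaryAbelian q X) (hq2 : q ≠ 2) (hq3 : q ≠ 3)
    (hXV : X ≤ normalizer (V : Set G)) (hXH : X ≤ normalizer (H : Set G)) (hXK : X ≤ normalizer (K : Set G)) :
    ∃ φ : ↥⁅V, factor K A⁆ →* G, Function.Injective φ ∧ (∀ w, φ w ∈ V ⊓ centralizer (X : Set G)) ∧
      ∀ e ∈ factor K A, ∃ d ∈ H, d ∈ centralizer (X : Set G) ∧
        ∀ w w' : ↥⁅V, factor K A⁆, (w' : G) = e * w * e⁻¹ → d * φ w * d⁻¹ = φ w' := by
  classical
  cases nonempty_fintype G
  have : IsMulCommutative V := hF.elem.1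
  obtain ⟨hf, hEH, -, -, -⟩ := hF.exists_factor hA hT
  change IsFactor p V K A ⁅K, A⁆ (factor K A) ⁅V, factor K A⁆ at hf
  set E := factor K A
  set W := ⁅V, E⁆
  have hWV : W ≤ V := hf.plane.le
  set φ : W →* G := V.subtype.comp ((Coprime.conjProd hXV).comp (inclusion hWV)) with hφ
  refine ⟨φ, (injective_iff_map_eq_one φ).2 fun w hw => ?_,
    fun w => Coprime.conjProd_mem_centralizer hXV _, fun e he => ?_⟩
  · set C := (V ⊓ centralizer (E : Set G)).subgroupOf V with hC
    let π := QuotientGroup.mk' C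
    let v : V := inclusion hWV w
    have hterm : ∀ x : X, π (Coprime.conjAut hXV x v) =
        if (x : G) ∈ normalizer (E : Set G) then π v else 1 := by
      intro x
      split_ifs with hx
      · congr 1
        exact Subtype.ext (hf.centralizes_plane hq2 hq3 (hXV x.2) (hX.2 x x.2) hx w w.2)
      · refine (QuotientGroup.eq_one_iff _).2 (mem_subgroupOf.2 ?_)
        have hAx : A.map (MulAut.conj (x : G)).toMonoidHom ≤ H := by
          rintro _ ⟨a, ha, rfl⟩
          exact (mem_normalizer_iff.1 (hXH x.2) a).1 (hA ha)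
        rcases hF.eq_or_commute hA hT hAx (hT.conj (hXV x.2)) with h | ⟨-, h, -⟩
        · rw [← factor_conj (hXK x.2)] at h
          exact absurd (PLocal.mem_normalizer_iff_map_eq.2 h) hx
        · rw [← factor_conj (hXK x.2)] at h
          refine h ?_
          have h0 : ((x : G) * (w : G) * (x : G)⁻¹) ∈ W.map (MulAut.conj (x : G)).toMonoidHom :=
            ⟨w, w.2, rfl⟩
          rw [Subgroup.map_commutator, PLocal.mem_normalizer_iff_map_eq.1 (hXV x.2)] at h0
          exact h0
    have h1 : π (Coprime.conjProd hXV v) =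
        π v ^ (Finset.univ.filter fun x : X => (x : G) ∈ normalizer (E : Set G)).card := by
      rw [Coprime.conjProd_apply, map_prod, Finset.prod_congr rfl fun x _ => hterm x,
        ← Finset.prod_filter, Finset.prod_const]
    have hv0 : Coprime.conjProd hXV v = 1 := Subtype.ext hw
    set m := (Finset.univ.filter fun x : X => (x : G) ∈ normalizer (E : Set G)).card with hm
    rw [hv0, map_one] at h1
    have h2 : ((v ^ m : V) : G) ∈ V ⊓ centralizer (E : Set G) :=
      mem_subgroupOf.1 ((QuotientGroup.eq_one_iff _).1 ((map_pow π v m).trans h1.symm))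
    have h3 : (w : G) ^ m ∈ W ⊓ centralizer (E : Set G) :=
      ⟨W.pow_mem w.2 m, by simpa [v] using h2.2⟩
    rw [hf.plane.inf, mem_bot] at h3
    have hmX : m = Nat.card ((normalizer (E : Set G)).subgroupOf X) := by
      rw [hm, Nat.card_eq_fintype_card, Fintype.card_subtype]
      exact congrArg Finset.card (Finset.filter_congr fun x _ => Iff.rfl)
    have hcop : (orderOf (w : G)).Coprime m := by
      obtain ⟨k, hk⟩ := IsPGroup.iff_card.1 (PLocal.elemAb_isPGroup hX)
      refine Nat.Coprime.coprime_dvd_left (orderOf_dvd_of_pow_eq_one (hF.elem.2 _ (hWV w.2))) ?_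
      refine Nat.Coprime.coprime_dvd_right (show m ∣ q ^ k by rw [hmX, ← hk]; exact card_subgroup_dvd_card _)
        (Nat.Coprime.pow_right k ?_)
      refine (Nat.coprime_primes hp.out hq.out).2 ?_
      rcases hf.small with rfl | rfl
      · exact hq2.symm
      · exact hq3.symm
    exact Subtype.ext (mem_bot.1 (Coprime.mem_of_pow_mem hcop (mem_bot.2 h3)))
  · obtain ⟨d, hd, hdX, -, hdW⟩ := hF.exists_diag hA hT hX hq2 hq3 hXV hXH hXK he
    refine ⟨d, hd, hdX, fun w w' hw => ?_⟩
    let c : MulAut V := Coprime.conjAut (le_refl (normalizer (V : Set G))) ⟨d, hF.norm hd⟩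
    have hc : ∀ v : V, (c v : G) = d * v * d⁻¹ := fun v => rfl
    have hcomm : ∀ (x : X) (v : V), c (Coprime.conjAut hXV x v) = Coprime.conjAut hXV x (c v) := by
      intro x v
      refine Subtype.ext ?_
      rw [hc, Coprime.coe_conjAut, Coprime.coe_conjAut, hc]
      have hdx : (x : G) * d = d * x := mem_centralizer_iff.1 hdX x x.2
      calc d * ((x : G) * v * (x : G)⁻¹) * d⁻¹ = (d * x) * v * (d * x)⁻¹ := by group
        _ = ((x : G) * d) * v * ((x : G) * d)⁻¹ := by rw [hdx]
        _ = _ := by group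
    have hcw : c (inclusion hWV w) = inclusion hWV w' := Subtype.ext ((hdW w w.2).trans hw.symm)
    have hkey : c (Coprime.conjProd hXV (inclusion hWV w)) = Coprime.conjProd hXV (inclusion hWV w') := by
      rw [Coprime.conjProd_apply, Coprime.conjProd_apply, map_prod]
      exact Finset.prod_congr rfl fun x _ => by rw [hcomm, hcw]
    exact congrArg Subtype.val hkey

end Cfsg.Agent.FFPair
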