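import Cfsg.Agent.Lib.FFPair.Structure

/-!
# A group generated by best offenders is a product of its factors

* `IsFF.eq_or_commute`: two factors are equal or commute
* `IsFF.factor_decomp`: `H = E × C_H([V, E])`
-/

open Subgroup
open scoped commutatorElement

namespace Cfsg.Agent.FFPair

variable {G : Type*} [Group G] [Finite G] {p : ℕ} {V H K A B : Subgroup G}

/-- `[K, A] A`. -/
def factor (K A : Subgroup G) : Subgroup G := ⁅K, A⁆ ⊔ A

theorem isPlane_ne [hp : Fact p.Prime] {E W : Subgroup G} (h : IsPlane p V E W) : W ≠ ⊥ := by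
  intro h0
  have := h.card
  rw [h0, card_bot] at this
  exact (Nat.one_lt_pow two_ne_zero hp.out.one_lt).ne this

/-- Two factors are equal, or commute and act on planes centralised by each other. -/
theorem IsFF.eq_or_commute [hp : Fact p.Prime] (hF : IsFF p V H K) (hA : A ≤ H) (hTA : IsTv p V A)
    (hB : B ≤ H) (hTB : IsTv p V B) :
    factor K B = factor K A ∨ (factor K B ≤ centralizer (factor K A : Set G) ∧
      ⁅V, factor K B⁆ ≤ V ⊓ centralizer (factor K A : Set G) ∧
      ⁅V, factor K A⁆ ≤ V ⊓ centralizer (factor K B : Set G)) := by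
  obtain ⟨hfA, hAH, hnA, hnEA, -⟩ := hF.exists_factor hA hTA
  obtain ⟨hfB, hBH, hnB, -, -⟩ := hF.exists_factor hB hTB
  have hRB : ⁅K, B⁆ ≤ K := le_normalizer_iff_commutator_le_left.1 (hB.trans hF.normK)
  have hRA : ⁅K, A⁆ ≤ K := le_normalizer_iff_commutator_le_left.1 (hA.trans hF.normK)
  rcases hfA.dichotomy hF hfB hAH hBH (hRB.trans hnA) with h | h
  · left
    have hU := hfA.fix_eq hF hfB hBH (hRB.trans hnA) h
    have hBE : B ≤ factor K A := by
      intro b hb
      refine hF.mem_of_plane hAH hfA.plane (hB hb) ?_ (by rw [hTB.elemAb.2 b hb]; exact one_mem _) ?_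
      · rw [← h]
        exact hfB.plane.norm (mem_sup_right hb)
      · rw [← hU]
        exact le_centralizer_iff.1 (inf_le_right : V ⊓ centralizer (factor K B : Set G) ≤ _)
          (mem_sup_right hb)
    have hM : ⁅K, B⁆ ≤ factor K A := (commutator_mono le_rfl hBE).trans
      (le_normalizer_iff_commutator_le_right.1 hnEA)
    refine eq_of_le_of_card_ge (sup_le hM hBE) ?_
    obtain ⟨e⟩ := hfA.plane.iso
    obtain ⟨e'⟩ := hfB.plane.iso
    exact (Nat.card_congr e.toEquiv).trans (Nat.card_congr e'.toEquiv).symm |>.le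
  · right
    have hW2 : ⁅V, factor K A⁆ ≤ V ⊓ centralizer (factor K B : Set G) := by
      refine (hfB.dichotomy hF hfA hBH hAH (hRA.trans hnB)).resolve_left fun h' => ?_
      refine isPlane_ne hfB.plane (le_bot_iff.1 ?_)
      calc ⁅V, ⁅K, B⁆ ⊔ B⁆ ≤ ⁅V, ⁅K, A⁆ ⊔ A⁆ ⊓ centralizer ((⁅K, A⁆ ⊔ A : Subgroup G) : Set G) :=
            le_inf h'.ge (h.trans inf_le_right)
        _ = ⊥ := hfA.plane.inf
    exact ⟨hfA.commute hF hfB hAH hBH h hW2, h, hW2⟩

theorem IsFF.gen_tv [hp : Fact p.Prime] (hF : IsFF p V H K)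
    (hgen : H = ⨆ A : {A : Subgroup G // A ≤ H ∧ Cfsg.IsBestOffenderOn p V A}, (A : Subgroup G))
    {L : Subgroup G} (hL : ∀ B, B ≤ H → IsTv p V B → B ≤ L) : H ≤ L := by
  rw [hgen]
  refine iSup_le fun ⟨A, hA, hb⟩ => ?_
  obtain ⟨k, T, hT, -, hs⟩ := hF.exists_tv_basis hA hb
  exact hs ▸ iSup_le fun i => hL _ ((hT i).1.trans hA) (hT i).2

/-- Each factor is normal in `H` and a direct factor of it. -/
theorem IsFF.factor_decomp [hp : Fact p.Prime] (hF : IsFF p V H K)
    (hgen : H = ⨆ A : {A : Subgroup G // A ≤ H ∧ Cfsg.IsBestOffenderOn p V A}, (A : Subgroup G))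
    (hA : A ≤ H) (hTA : IsTv p V A) :
    H ≤ normalizer (factor K A : Set G) ∧
    ⁅factor K A, H ⊓ centralizer ((⁅V, factor K A⁆ : Subgroup G) : Set G)⁆ = ⊥ ∧
    factor K A ⊓ (H ⊓ centralizer ((⁅V, factor K A⁆ : Subgroup G) : Set G)) = ⊥ ∧
    factor K A ⊔ (H ⊓ centralizer ((⁅V, factor K A⁆ : Subgroup G) : Set G)) = H ∧
    ⁅V, H ⊓ centralizer ((⁅V, factor K A⁆ : Subgroup G) : Set G)⁆ ≤ V ⊓ centralizer (factor K A : Set G) := by
  obtain ⟨hfA, hAH, -, -, -⟩ := hF.exists_factor hA hTA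
  change IsFactor p V K A ⁅K, A⁆ (factor K A) ⁅V, factor K A⁆ at hfA
  set E := factor K A
  set W := ⁅V, E⁆
  set C := H ⊓ centralizer (W : Set G) with hC
  have hcase : ∀ B, B ≤ H → IsTv p V B → B ≤ E ∨ (B ≤ centralizer (E : Set G) ∧ B ≤ C) := by
    intro B hB hTB
    rcases hF.eq_or_commute hA hTA hB hTB with h | ⟨h1, -, h3⟩
    · exact Or.inl ((le_sup_right : B ≤ factor K B).trans h.le)
    · exact Or.inr ⟨le_sup_right.trans h1, le_inf hB
        (((le_sup_right : B ≤ factor K B)).trans (le_centralizer_iff.1 (h3.trans inf_le_right)))⟩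
  have hn : H ≤ normalizer (E : Set G) := hF.gen_tv hgen fun B hB hTB =>
    (hcase B hB hTB).elim (fun h => h.trans le_normalizer)
      (fun h => h.1.trans (centralizer_le_normalizer _))
  have hfaith : E ⊓ C = ⊥ := le_bot_iff.1 ((inf_le_inf_left E inf_le_right).trans hfA.plane.faith.le)
  have hWn : E ≤ normalizer (W : Set G) := hfA.plane.norm
  refine ⟨hn, ?_, hfaith, le_antisymm (sup_le hAH inf_le_left) (hF.gen_tv hgen fun B hB hTB =>
    (hcase B hB hTB).elim (fun h => h.trans le_sup_left) (fun h => h.2.trans le_sup_right)), ?_⟩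
  · rw [eq_bot_iff, Subgroup.commutator_le]
    intro e he c hc
    have h1 : e * c * e⁻¹ ∈ centralizer (W : Set G) :=
      (mem_normalizer_iff.1 (PLocal.normalizer_le_normalizer_centralizer _ (hWn he)) c).1 hc.2
    have h2 : ⁅e, c⁆ ∈ E ⊓ C := by
      refine ⟨?_, H.mul_mem (H.mul_mem (H.mul_mem (hAH he) hc.1) (H.inv_mem (hAH he))) (H.inv_mem hc.1), ?_⟩
      · rw [commutatorElement_def, mul_assoc, mul_assoc, ← mul_assoc c]
        exact E.mul_mem he ((mem_normalizer_iff.1 (hn hc.1) e⁻¹).1 (E.inv_mem he))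
      · rw [commutatorElement_def]
        exact (centralizer (W : Set G)).mul_mem h1 ((centralizer (W : Set G)).inv_mem hc.2)
    rwa [hfaith] at h2
  · rw [Subgroup.commutator_le]
    intro v hv c hc
    have hv' : v ∈ W ⊔ (V ⊓ centralizer (E : Set G)) := hfA.plane.sup.symm ▸ hv
    rw [← SetLike.mem_coe, Subgroup.coe_mul_of_right_le_normalizer_left _ _
      ((inf_le_left.trans ((PLocal.elemAb_le_centralizer hF.elem).trans (centralizer_le hfA.plane.le))).trans
        (centralizer_le_normalizer _))] at hv'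
    obtain ⟨w, hw, u, hu, rfl⟩ := Set.mem_mul.1 hv'
    have hcn := hn hc.1
    have hcV := hF.norm hc.1
    have hu' : c * u⁻¹ * c⁻¹ ∈ V ⊓ centralizer (E : Set G) :=
      ⟨(mem_normalizer_iff.1 hcV _).1 (V.inv_mem hu.1),
        (mem_normalizer_iff.1 (PLocal.normalizer_le_normalizer_centralizer _ hcn) _).1
          ((centralizer (E : Set G)).inv_mem hu.2)⟩
    have h1 : c * w⁻¹ * c⁻¹ = w⁻¹ := by
      rw [← mem_centralizer_iff.1 hc.2 w⁻¹ (W.inv_mem hw), mul_inv_cancel_right]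
    have hmem := (V ⊓ centralizer (E : Set G)).mul_mem hu hu'
    have e : ⁅w * u, c⁆ = w * (u * (c * u⁻¹ * c⁻¹)) * w⁻¹ := by
      calc ⁅w * u, c⁆ = w * (u * (c * u⁻¹ * c⁻¹)) * (c * w⁻¹ * c⁻¹) := by
            rw [commutatorElement_def]; group
        _ = _ := by rw [h1]
    rw [e, PLocal.elemAb_comm hF.elem (hfA.plane.le hw) hmem.1, mul_inv_cancel_right]
    exact hmem

end Cfsg.Agent.FFPair
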