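import Cfsg.Agent.Lib.FFPair.Model
import Cfsg.Agent.S0608

/-!
# Failure of Thompson factorisation

* `failure_model`: if `J(G)` moves `zSup p G`, the model contains transvection subgroups
-/

open Subgroup
open scoped commutatorElement

namespace Cfsg.Agent.FFPair

universe u

variable {G : Type u} [Group G] {p : ℕ}

theorem maxIn_best [Finite G] [Fact p.Prime] {V : Subgroup G} [V.Normal]
    (hV : Cfsg.IsElementaryAbelian p V) {A : Subgroup G}
    (hA : A ∈ Cfsg.maxElementaryAbelianSubgroups p G) : Cfsg.IsBestOffenderOn p V A := by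
  obtain ⟨S, hS⟩ := (PLocal.elemAb_isPGroup hA.1).exists_le_sylow
  obtain ⟨T, hT⟩ := (PLocal.elemAb_isPGroup hV).exists_le_sylow
  obtain ⟨g, hg⟩ := MulAction.exists_smul_eq G T S
  have hVS : V ≤ (S : Subgroup G) := by
    rw [← hg, Sylow.coe_subgroup_smul, ← Solvable.conj_normal g V]
    exact Solvable.conj_mono g hT
  exact PLocal.isBestOffenderOn_of_maxIn ⟨hS, hA.1, fun B _ hB => hA.2 B hB⟩ hV hVS

theorem thompsonSubgroup_normal [Finite G] : (Cfsg.thompsonSubgroup p G).Normal :=
  have := PLocal.thompsonSubgroup_characteristic (p := p) (G := G)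
  inferInstance

/-- In a `p`-separable group with `O_{p'} = 1` and no factorisation there is a transvection subgroup. -/
theorem failure_model [Finite G] [hp : Fact p.Prime] (hsep : Solvable.IsPiSeparable {p} G)
    (hO : Cfsg.pPrimeCore p G = ⊥) (hnf : ¬ Cfsg.IsThompsonFactorizable p G) :
    ∃ (X : Type u) (_ : Group X) (_ : Finite X) (U : Subgroup X) (ι : G →* X) (j : zSup p G →* X)
      (A : Subgroup X), IsModel (zSup p G) U ι j ∧
      IsFF p U ((Cfsg.thompsonSubgroup p G).map ι) ((Cfsg.pPrimeCore p ↥((Cfsg.thompsonSubgroup p G).map ι)).map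
          ((Cfsg.thompsonSubgroup p G).map ι).subtype) ∧
      (Cfsg.thompsonSubgroup p G).map ι = ⨆ B : {B : Subgroup X // B ≤ (Cfsg.thompsonSubgroup p G).map ι ∧
          Cfsg.IsBestOffenderOn p U B}, (B : Subgroup X) ∧
      A ≤ (Cfsg.thompsonSubgroup p G).map ι ∧ IsTv p U A := by
  have hn := zSup_normal (G := G) (p := p)
  have hJn := thompsonSubgroup_normal (G := G) (p := p)
  obtain ⟨hZ, -, hcore⟩ := zSup_props hsep hO
  obtain ⟨X, _, hX, U, ι, j, hM⟩ := exists_model (zSup p G)
  have hF := hM.isFF hZ hsep (hcore inferInstance) (J := Cfsg.thompsonSubgroup p G)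
  have hgen := hM.gen (J := Cfsg.thompsonSubgroup p G) (S := Cfsg.maxElementaryAbelianSubgroups p G) rfl
    (fun A hA => maxIn_best hZ hA)
  obtain ⟨B, hB, hTB⟩ : ∃ B, B ≤ (Cfsg.thompsonSubgroup p G).map ι ∧ IsTv p U B := by
    by_contra! h
    refine hnf ((S0608.result hO).2 (hM.map_eq_bot.1 (le_bot_iff.1 ?_)))
    exact hF.gen_tv hgen fun B hB hTB => absurd hTB (h B hB)
  exact ⟨X, _, hX, U, ι, j, B, hM, hF, hgen, hB, hTB⟩

end Cfsg.Agent.FFPair
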