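import Cfsg.Agent.Lib.FFPair.Factors
import Cfsg.Agent.Lib.Transfer.Criteria
import Mathlib.Data.Finset.NoncommProd

/-!
# A coprime group of operators permuting the factors

* `IsFF.exists_diag`: fixed points induce every inner automorphism of each factor
* `le_of_conjugates`: `SL₂(p)` is generated by the conjugates of an element of order `p`
-/

open Subgroup
open scoped commutatorElement

namespace Cfsg.Agent.FFPair

variable {G : Type*} [Group G] [Finite G] {p q : ℕ} {V H K A X : Subgroup G}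

theorem factor_conj {x : G} (hK : x ∈ normalizer (K : Set G)) (A : Subgroup G) :
    (factor K A).map (MulAut.conj x).toMonoidHom = factor K (A.map (MulAut.conj x).toMonoidHom) := by
  rw [factor, factor, Subgroup.map_sup, Subgroup.map_commutator, PLocal.mem_normalizer_iff_map_eq.1 hK]

/-- An operator of order prime to `|SL₂(p)|` normalising a factor fixes its plane. -/
theorem IsFactor.centralizes_plane [hp : Fact p.Prime] [hq : Fact q.Prime] {R E W : Subgroup G}
    (h : IsFactor p V K A R E W) (hq2 : q ≠ 2) (hq3 : q ≠ 3) {z : G} (hzV : z ∈ normalizer (V : Set G))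
    (hz : z ^ q = 1) (hzE : z ∈ normalizer (E : Set G)) : ∀ w ∈ W, z * w * z⁻¹ = w := by
  have hzW : z ∈ normalizer (W : Set G) := by
    rw [PLocal.mem_normalizer_iff_map_eq, ← h.plane.comm, Subgroup.map_commutator,
      PLocal.mem_normalizer_iff_map_eq.1 hzV, PLocal.mem_normalizer_iff_map_eq.1 hzE]
  obtain ⟨k, hk⟩ : ∃ k, orderOf z = q ^ k := by
    obtain ⟨k, -, hk⟩ := (Nat.dvd_prime_pow hq.out).1 (show orderOf z ∣ q ^ 1 by
      rw [pow_one]; exact orderOf_dvd_of_pow_eq_one hz)
    exact ⟨k, hk⟩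
  obtain ⟨C, hCW, hCfix, -, hmod⟩ := Transfer.card_fixed_modEq (q := q) W hzW hk
  have hCeq : C = W := by
    refine eq_of_le_of_card_ge hCW (le_of_not_gt fun hlt => ?_)
    have hd : q ∣ Nat.card W - Nat.card C := (Nat.modEq_iff_dvd' hlt.le).1 hmod.symm
    obtain ⟨i, hi2, hi⟩ := (Nat.dvd_prime_pow hp.out).1 (h.plane.card ▸ card_dvd_of_le hCW)
    rw [hi, h.plane.card] at hd hlt
    have hq5 : 5 ≤ q := by
      have := hq.out.two_le
      rcases Nat.lt_or_ge q 5 with h' | h'
      · interval_cases q <;> first | omega | exact absurd hq.out (by norm_num)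
      · exact h'
    rcases h.small with rfl | rfl <;> interval_cases i <;> norm_num at hd hlt
    all_goals (have hle := Nat.le_of_dvd (by norm_num) hd)
    all_goals interval_cases q
    all_goals first | omega | exact absurd hq.out (by norm_num)
  exact fun w hw => hCfix w (hCeq.symm ▸ hw)

/-- An operator of order prime to `|SL₂(p)|` normalising a factor centralises it. -/
theorem IsFactor.centralizes [hp : Fact p.Prime] [hq : Fact q.Prime] {R E W : Subgroup G}
    (h : IsFactor p V K A R E W) (hq2 : q ≠ 2) (hq3 : q ≠ 3) {z : G} (hzV : z ∈ normalizer (V : Set G))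
    (hz : z ^ q = 1) (hzE : z ∈ normalizer (E : Set G)) : z ∈ centralizer (E : Set G) := by
  have hzC := h.centralizes_plane hq2 hq3 hzV hz hzE
  refine mem_centralizer_iff.2 fun e he => ?_
  have h1 : ⁅z, e⁆ ∈ E ⊓ centralizer (W : Set G) := by
    refine ⟨?_, mem_centralizer_iff.2 fun w hw => ?_⟩
    · rw [commutatorElement_def]
      exact E.mul_mem ((mem_normalizer_iff.1 hzE e).1 he) (E.inv_mem he)
    · have hez : Commute z w := mul_inv_eq_iff_eq_mul.1 (hzC w hw)
      have hew : e⁻¹ * w * e ∈ W := by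
        simpa using (mem_normalizer_iff.1 (inv_mem (h.plane.norm he)) w).1 hw
      have hez'' : Commute z (e⁻¹ * w * e) := mul_inv_eq_iff_eq_mul.1 (hzC _ hew)
      have hez' : Commute z⁻¹ (e⁻¹ * w * e) := hez''.inv_left
      rw [commutatorElement_def]
      calc w * (z * e * z⁻¹ * e⁻¹) = z * e * ((e⁻¹ * w * e) * z⁻¹) * e⁻¹ := by
            rw [← mul_assoc w, ← mul_assoc w, ← mul_assoc w, ← hez.eq]; group
        _ = _ := by rw [← hez'.eq]; group
  rw [h.plane.faith, mem_bot] at h1
  exact (commutatorElement_eq_one_iff_mul_comm.1 h1).symm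

/-- The fixed points of `X` induce every inner automorphism of each factor. -/
theorem IsFF.exists_diag [hp : Fact p.Prime] [hq : Fact q.Prime] (hF : IsFF p V H K) (hA : A ≤ H)
    (hT : IsTv p V A) (hX : Cfsg.IsElementaryAbelian q X) (hq2 : q ≠ 2) (hq3 : q ≠ 3)
    (hXV : X ≤ normalizer (V : Set G)) (hXH : X ≤ normalizer (H : Set G)) (hXK : X ≤ normalizer (K : Set G))
    {e : G} (he : e ∈ factor K A) :
    ∃ d ∈ H, d ∈ centralizer (X : Set G) ∧ (∀ a ∈ factor K A, d * a * d⁻¹ = e * a * e⁻¹) ∧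
      ∀ w ∈ ⁅V, factor K A⁆, d * w * d⁻¹ = e * w * e⁻¹ := by
  classical
  cases nonempty_fintype G
  obtain ⟨hf, hEH, -, -, -⟩ := hF.exists_factor hA hT
  set E := factor K A
  change IsFactor p V K A ⁅K, A⁆ E _ at hf
  set c : X → G := fun x => (x : G) * e * (x : G)⁻¹
  set T : Finset G := Finset.univ.image c with hTdef
  have hmemT : ∀ {t}, t ∈ T → ∃ x ∈ X, x * e * x⁻¹ = t := fun ht => by
    obtain ⟨x, -, rfl⟩ := Finset.mem_image.1 ht
    exact ⟨x, x.2, rfl⟩
  have hTH : ∀ t ∈ T, t ∈ H := fun t ht => by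
    obtain ⟨x, hx, rfl⟩ := hmemT ht
    exact (mem_normalizer_iff.1 (hXH hx) e).1 (hEH he)
  -- elements of distinct factors commute
  have hsep : ∀ {t}, t ∈ T → t = e ∨ ∀ a : G, a ∈ E ∨ a ∈ ⁅V, E⁆ → Commute a t := by
    intro t ht
    obtain ⟨x, hx, rfl⟩ := hmemT ht
    have hTx : IsTv p V (A.map (MulAut.conj x).toMonoidHom) := hT.conj (hXV hx)
    have hAx : A.map (MulAut.conj x).toMonoidHom ≤ H := by
      rintro _ ⟨a, ha, rfl⟩
      exact (mem_normalizer_iff.1 (hXH hx) a).1 (hA ha)
    rcases hF.eq_or_commute hA hT hAx hTx with h | ⟨h, -, h2⟩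
    · left
      rw [← factor_conj (hXK hx)] at h
      have hz := hf.centralizes hq2 hq3 (hXV hx) (hX.2 x hx) (PLocal.mem_normalizer_iff_map_eq.2 h)
      rw [← mem_centralizer_iff.1 hz e he, mul_inv_cancel_right]
    · right
      intro a ha
      rw [← factor_conj (hXK hx)] at h h2
      rcases ha with ha | ha
      · exact mem_centralizer_iff.1 (h ⟨e, he, rfl⟩) a ha
      · exact (mem_centralizer_iff.1 (h2 ha).2 _ ⟨e, he, rfl⟩).symm
  have hconjT : ∀ {x}, x ∈ X → ∀ {t}, t ∈ T → x * t * x⁻¹ ∈ T := fun {x} hx {t} ht => by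
    obtain ⟨y, hy, rfl⟩ := hmemT ht
    exact Finset.mem_image.2 ⟨⟨x * y, X.mul_mem hx hy⟩, Finset.mem_univ _, by simp [c, mul_assoc]⟩
  have hcomm : (T : Set G).Pairwise (Function.onFun Commute id) := by
    intro s hs t ht hst
    obtain ⟨x, hx, rfl⟩ := hmemT hs
    have ht' : x⁻¹ * t * x ∈ T := by simpa using hconjT (X.inv_mem hx) ht
    rcases hsep ht' with h | h
    · exact absurd (by rw [← h]; group) hst
    · have h' := (h e (Or.inl he)).map (MulAut.conj x).toMonoidHom
      simp only [MulEquiv.coe_toMonoidHom, MulAut.conj_apply] at h'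
      rw [show x * (x⁻¹ * t * x) * x⁻¹ = t by group] at h'
      exact h'
  suffices hact : ∀ a : G, a ∈ E ∨ a ∈ ⁅V, E⁆ →
      T.noncommProd id hcomm * a * (T.noncommProd id hcomm)⁻¹ = e * a * e⁻¹ by
    refine ⟨T.noncommProd id hcomm, H.noncommProd_mem hcomm hTH, mem_centralizer_iff.2 fun x hx => ?_,
      fun a ha => hact a (Or.inl ha), fun a ha => hact a (Or.inr ha)⟩
    suffices h : MulAut.conj x (T.noncommProd id hcomm) = T.noncommProd id hcomm by
      rw [MulAut.conj_apply] at h
      exact mul_inv_eq_iff_eq_mul.1 h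
    rw [Finset.map_noncommProd]
    have hmap : T.map ⟨MulAut.conj x, (MulAut.conj x).injective⟩ = T := by
      refine Finset.eq_of_subset_of_card_le (fun t ht => ?_) (Finset.card_map _).ge
      obtain ⟨s, hs, rfl⟩ := Finset.mem_map.1 ht
      exact hconjT hx hs
    unfold Finset.noncommProd
    congr 1
    conv_rhs => rw [← hmap, Finset.map_val, Multiset.map_map]
    rfl
  intro a ha
  have heT : e ∈ T := Finset.mem_image.2 ⟨⟨1, X.one_mem⟩, Finset.mem_univ _, by simp [c]⟩
  rw [← Finset.mul_noncommProd_erase T heT id hcomm]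
  have hr : ∀ hc, Commute a ((T.erase e).noncommProd id hc) := fun hc =>
    Finset.noncommProd_commute _ _ _ _ fun t ht => by
      obtain ⟨hne, ht'⟩ := Finset.mem_erase.1 ht
      exact ((hsep ht').resolve_left hne) a ha
  have hr' := hr (hcomm.mono (Finset.coe_subset.2 (Finset.erase_subset e T)))
  revert hr'
  generalize (T.erase e).noncommProd id _ = r
  intro hr
  calc (id e * r) * a * (id e * r)⁻¹ = e * (r * a) * r⁻¹ * e⁻¹ := by simp only [id_eq]; group
    _ = _ := by rw [← hr.eq]; group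

/-- A factor is generated by the conjugates of an element of order `p`. -/
theorem le_of_conjugates [hp : Fact p.Prime] {E L A A' : Subgroup G} (hgen : E = A ⊔ A')
    (hA : Nat.card A = p) (hA' : Nat.card A' = p) (hsl : Nat.card E = p * (p ^ 2 - 1))
    {a : G} (ha : a ∈ E) (hao : orderOf a = p) (hL : ∀ e ∈ E, e * a * e⁻¹ ∈ L) : E ≤ L := by
  set a' : E := ⟨a, ha⟩
  set N : Subgroup E := normalClosure {a'}
  have hNL : N.map E.subtype ≤ L := by
    rw [Subgroup.map_le_iff_le_comap]
    refine (Subgroup.closure_le _).2 fun x hx => ?_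
    obtain ⟨b, hb, hbx⟩ := Group.mem_conjugatesOfSet_iff.1 hx
    obtain ⟨g, rfl⟩ := isConj_iff.1 hbx
    rw [Set.mem_singleton_iff.1 hb]
    exact hL g g.2
  have hord : orderOf a' = p := (Subgroup.orderOf_coe a').symm.trans hao
  have hpN : p ∣ Nat.card N := hord ▸ Subgroup.orderOf_dvd_natCard N (subset_normalClosure rfl)
  have hidx : ¬ p ∣ N.index := by
    intro h
    have h1 := mul_dvd_mul hpN h
    rw [N.card_mul_index, hsl, Nat.mul_dvd_mul_iff_left hp.out.pos] at h1
    have h2 : p ∣ p ^ 2 := dvd_pow_self p two_ne_zero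
    have h3 := Nat.dvd_sub h2 h1
    have h4 : p ^ 2 - (p ^ 2 - 1) = 1 := by
      have := Nat.one_le_pow 2 p hp.out.pos
      omega
    rw [h4] at h3
    exact hp.out.not_dvd_one h3
  have key : ∀ {B : Subgroup G}, B ≤ E → Nat.card B = p → B ≤ L := by
    intro B hB hBc b hb
    refine hNL ⟨⟨b, hB hb⟩, Coprime.mem_of_pow_mem (n := N.index) ?_ (N.pow_index_mem _), rfl⟩
    rw [← Subgroup.orderOf_coe]
    refine Nat.Coprime.coprime_dvd_left ?_ (hp.out.coprime_iff_not_dvd.2 hidx)
    exact hBc ▸ Subgroup.orderOf_dvd_natCard B hb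
  rw [hgen]
  exact sup_le (key (hgen ▸ le_sup_left) hA) (key (hgen ▸ le_sup_right) hA')

end Cfsg.Agent.FFPair
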