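import Cfsg.Agent.Lib.FFPair.Plane
import Cfsg.Agent.Lib.PLocal.Action
import Cfsg.Agent.Lib.Linear.SLn

/-!
# A transvection subgroup and a conjugate: `SL₂(p)`, `p ≤ 3`

* `IsTv.comm_card`: `|[V, A]| = p`
* `IsPlane p V E W`, `IsFF.pair`
-/

open Subgroup
open scoped commutatorElement

namespace Cfsg.Agent.FFPair

variable {G : Type*} [Group G] {p : ℕ} {V H K A A' : Subgroup G}

theorem commutator_closure_le {W L : Subgroup G} {S : Set G} (hS : ∀ s ∈ S, s ∈ normalizer (L : Set G))
    (h : ∀ w ∈ W, ∀ s ∈ S, ⁅w, s⁆ ∈ L) : ⁅W, Subgroup.closure S⁆ ≤ L := by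
  refine Subgroup.commutator_le.2 fun w hw g hg => ?_
  suffices ∀ w ∈ W, g ∈ normalizer (L : Set G) ∧ ⁅w, g⁆ ∈ L from (this w hw).2
  clear hw w
  induction hg using Subgroup.closure_induction with
  | mem s hs => exact fun w hw => ⟨hS s hs, h w hw s hs⟩
  | one => exact fun w _ => ⟨one_mem _, by rw [commutatorElement_one_right]; exact L.one_mem⟩
  | mul x y _ _ hx hy =>
    intro w hw
    obtain ⟨hxN, hx'⟩ := hx w hw
    obtain ⟨hyN, hy'⟩ := hy w hw
    refine ⟨mul_mem hxN hyN, ?_⟩
    have e : ⁅w, x * y⁆ = ⁅w, x⁆ * (x * ⁅w, y⁆ * x⁻¹) := by simp only [commutatorElement_def]; group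
    rw [e]
    exact L.mul_mem hx' ((mem_normalizer_iff.1 hxN _).1 hy')
  | inv x _ hx =>
    intro w hw
    obtain ⟨hxN, hx'⟩ := hx w hw
    refine ⟨inv_mem hxN, ?_⟩
    have e : ⁅w, x⁻¹⁆ = x⁻¹ * ⁅w, x⁆⁻¹ * x := by simp only [commutatorElement_def]; group
    rw [e]
    simpa using (mem_normalizer_iff.1 (inv_mem hxN) _).1 (L.inv_mem hx')

theorem IsTv.exists_gen [hp : Fact p.Prime] (h : IsTv p V A) :
    ∃ a ∈ A, zpowers a = A ∧ orderOf a = p := by
  have : IsCyclic A := isCyclic_of_prime_card h.1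
  obtain ⟨a, ha⟩ := IsCyclic.exists_generator (α := A)
  have hA : zpowers (a : G) = A := le_antisymm (zpowers_le.2 a.2) fun x hx => by
    obtain ⟨i, hi⟩ := ha ⟨x, hx⟩
    exact ⟨i, congrArg Subtype.val hi⟩
  exact ⟨a, a.2, hA, by rw [← Nat.card_zpowers, hA, h.1]⟩

theorem centralizer_zpowers (a : G) :
    centralizer ((zpowers a : Subgroup G) : Set G) = centralizer {a} := by
  refine le_antisymm (centralizer_le (by simp)) fun x hx => mem_centralizer_iff.2 ?_
  rintro _ ⟨i, rfl⟩
  exact ((Commute.zpow_left (mem_centralizer_singleton_iff.1 hx).symm i)).eq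

variable [Finite G]

theorem IsTv.comm_card [hp : Fact p.Prime] (hV : Cfsg.IsElementaryAbelian p V) (h : IsTv p V A)
    (hAV : A ≤ normalizer (V : Set G)) :
    Nat.card ↥⁅V, A⁆ = p ∧ ⁅V, A⁆ ≤ V ∧ A ≤ centralizer ((⁅V, A⁆ : Subgroup G) : Set G) ∧
      ∀ a ∈ A, a ≠ 1 → ∀ l ∈ ⁅V, A⁆, ∃ v ∈ V, ⁅a, v⁆ = l := by
  obtain ⟨a, haA, hA, hao⟩ := h.exists_gen
  have haN : ∀ {b}, b ∈ A → ∀ v ∈ V, b * v * b⁻¹ ∈ V :=
    fun hb v hv => (mem_normalizer_iff.1 (hAV hb) v).1 hv
  have hcomm : ∀ {b}, b ∈ A → ∀ v ∈ V, ⁅b, v⁆ ∈ V := fun hb v hv => by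
    rw [commutatorElement_def]; exact V.mul_mem (haN hb v hv) (V.inv_mem hv)
  have mk : ∀ b, b ∈ A → b ≠ 1 → ∃ L : Subgroup G, Nat.card L = p ∧ L ≤ V ∧ L = ⁅V, A⁆ ∧
      ∀ l ∈ L, ∃ v ∈ V, ⁅b, v⁆ = l := by
    intro b hb hb1
    have hbo : zpowers b = A := ((h.eq_bot_or_self (zpowers_le.2 hb)).resolve_left
      (by rwa [zpowers_eq_bot]))
    let ψ : V →* V := MonoidHom.mk' (fun v => ⟨⁅b, (v : G)⁆, hcomm hb v v.2⟩) fun u v => Subtype.ext (by
      have e : ⁅b, (u : G) * v⁆ = ⁅b, (u : G)⁆ * ((u : G) * ⁅b, (v : G)⁆ * (u : G)⁻¹) := by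
        simp only [commutatorElement_def]; group
      show ⁅b, (u : G) * v⁆ = ⁅b, (u : G)⁆ * ⁅b, (v : G)⁆
      rw [e, PLocal.elemAb_comm hV u.2 (hcomm hb v v.2), mul_inv_cancel_right])
    have hker : ψ.ker = (V ⊓ centralizer (A : Set G)).subgroupOf V := by
      ext v
      rw [MonoidHom.mem_ker, mem_subgroupOf, mem_inf, ← hbo, centralizer_zpowers,
        mem_centralizer_singleton_iff]
      constructor
      · intro hv
        exact ⟨v.2, (commutatorElement_eq_one_iff_mul_comm.1 (congrArg Subtype.val hv)).symm⟩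
      · intro hv
        exact Subtype.ext (commutatorElement_eq_one_iff_mul_comm.2 hv.2.symm)
    set L := ψ.range.map V.subtype with hL
    have hLc : Nat.card L = p := by
      rw [card_map_of_injective V.subtype_injective, ← Subgroup.index_ker, hker]
      exact h.2
    have hLV : L ≤ V := map_subtype_le _
    refine ⟨L, hLc, hLV, ?_, fun l hl => ?_⟩
    · refine le_antisymm ?_ ?_
      · rintro _ ⟨_, ⟨v, rfl⟩, rfl⟩
        show ⁅b, (v : G)⁆ ∈ _
        rw [commutator_comm]
        exact commutator_mem_commutator hb v.2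
      · have hbL : b ∈ normalizer (L : Set G) := by
          refine Coprime.mem_normalizer_of_forall ?_
          rintro _ ⟨_, ⟨v, rfl⟩, rfl⟩
          refine ⟨_, ⟨⟨b * v * b⁻¹, haN hb v v.2⟩, rfl⟩, ?_⟩
          show ⁅b, b * (v : G) * b⁻¹⁆ = b * ⁅b, (v : G)⁆ * b⁻¹
          simp only [commutatorElement_def]; group
        have : ⁅V, Subgroup.closure ({b} : Set G)⁆ ≤ L := commutator_closure_le
          (fun s hs => (Set.mem_singleton_iff.1 hs) ▸ hbL) (fun v hv s hs => by
            rw [Set.mem_singleton_iff.1 hs, ← commutatorElement_inv]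
            exact L.inv_mem ⟨_, ⟨⟨v, hv⟩, rfl⟩, rfl⟩)
        rwa [← zpowers_eq_closure, hbo] at this
    · obtain ⟨_, ⟨v, rfl⟩, rfl⟩ := hl
      exact ⟨v, v.2, rfl⟩
  have ha1 : a ≠ 1 := fun e => hp.out.ne_one (by rw [← hao, e, orderOf_one])
  obtain ⟨L, hLc, hLV, hL, -⟩ := mk a haA ha1
  refine ⟨hL ▸ hLc, hL ▸ hLV, ?_, fun b hb hb1 => ?_⟩
  · rw [← hL, le_centralizer_iff, ← commutator_eq_bot_iff_le_centralizer]
    have hne : ¬ L ≤ ⁅L, A⁆ := fun hle => by
      have := PLocal.eq_bot_of_le_commutator_pgroup (p := p) (PLocal.elemAb_isPGroup hV) hAV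
        (fun x hx => ⟨1, by rw [pow_one, h.elemAb.2 x hx]; exact one_mem _⟩) hLV hle
      rw [this, card_bot] at hLc
      exact hp.out.ne_one hLc.symm
    have hLA : ⁅L, A⁆ ≤ L := (commutator_mono hLV le_rfl).trans hL.ge
    rcases (Nat.dvd_prime hp.out).1 (hLc ▸ card_dvd_of_le hLA) with h1 | h1
    · exact card_eq_one.1 h1
    · exact absurd (eq_of_le_of_card_ge hLA (hLc.trans h1.symm).le).ge hne
  · obtain ⟨L', -, -, hL', hl⟩ := mk b hb hb1
    exact hL' ▸ hl

/-- `E` induces `SL₂(p)` on the plane `W` and centralises a complement of it in `V`. -/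
structure IsPlane (p : ℕ) (V E W : Subgroup G) : Prop where
  card : Nat.card W = p ^ 2
  le : W ≤ V
  comm : ⁅V, E⁆ = W
  norm : E ≤ normalizer (W : Set G)
  inf : W ⊓ centralizer (E : Set G) = ⊥
  sup : W ⊔ (V ⊓ centralizer (E : Set G)) = V
  faith : E ⊓ centralizer (W : Set G) = ⊥
  iso : Nonempty (E ≃* Matrix.SpecialLinearGroup (Fin 2) (ZMod p))
  full : ∀ g ∈ normalizer (W : Set G), g ^ p ∈ centralizer (W : Set G) →
    ∃ e ∈ E, e⁻¹ * g ∈ centralizer (W : Set G)

/-- A transvection subgroup and a different one in `K A` generate `SL₂(p)` on a plane, and `p ≤ 3`. -/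
theorem IsFF.pair [hp : Fact p.Prime] (hF : IsFF p V H K) (hA : A ≤ H) (hA' : A' ≤ H)
    (hT : IsTv p V A) (hT' : IsTv p V A') (hle : A' ≤ K ⊔ A) (hne : A' ≠ A) :
    (p = 2 ∨ p = 3) ∧ IsPlane p V (A ⊔ A') ⁅V, A ⊔ A'⁆ := by
  have hAV : A ≤ normalizer (V : Set G) := hA.trans hF.norm
  have hA'V : A' ≤ normalizer (V : Set G) := hA'.trans hF.norm
  set E := A ⊔ A' with hE
  have hEH : E ≤ H := sup_le hA hA'
  have hEKA : E ≤ K ⊔ A := sup_le le_sup_right hle
  have hEV : E ≤ normalizer (V : Set G) := hEH.trans hF.norm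
  have hKA : A ≤ normalizer (K : Set G) := hA.trans hF.normK
  have hcopA : (Nat.card A).Coprime (Nat.card K) := hT.1 ▸ hF.cop.symm
  have hcard : Nat.card ↥(K ⊔ A) = Nat.card K * p := by
    rw [Coprime.card_sup_of_coprime hKA hcopA.symm, hT.1]
  have hnotp : ¬ IsPGroup p E := by
    intro hEp
    obtain ⟨n, hn⟩ := IsPGroup.iff_card.1 hEp
    have h1 : p ^ n ∣ p := (Nat.Coprime.dvd_of_dvd_mul_left
      (hF.cop.symm.pow_left n) (hcard ▸ hn ▸ card_dvd_of_le hEKA))
    have h2 : A = E := eq_of_le_of_card_ge le_sup_left (by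
      rw [hn, hT.1]; exact Nat.le_of_dvd hp.out.pos h1)
    exact hne ((hT.eq_bot_or_self (h2.symm ▸ (le_sup_right : A' ≤ E))).resolve_left hT'.ne_bot)
  obtain ⟨hla, hlaV, hAla, hAlaS⟩ := hT.comm_card hF.elem hAV
  obtain ⟨hlb, hlbV, hAlb, hAlbS⟩ := hT'.comm_card hF.elem hA'V
  set la := ⁅V, A⁆ with hla'
  set lb := ⁅V, A'⁆ with hlb'
  set W := la ⊔ lb with hW
  have hWV : W ≤ V := sup_le hlaV hlbV
  have hEW : ⁅V, E⁆ = W := by
    refine le_antisymm ?_ (sup_le (commutator_mono le_rfl le_sup_left) (commutator_mono le_rfl le_sup_right))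
    have hN : ∀ {X : Subgroup G}, X ≤ normalizer (V : Set G) → ⁅V, X⁆ ≤ W →
        X ≤ normalizer (W : Set G) := by
      intro X hX hXW x hx
      refine Coprime.mem_normalizer_of_forall fun w hw => ?_
      have h1 : ⁅x, w⁆ ∈ W := by
        rw [← commutatorElement_inv]
        exact W.inv_mem (hXW (commutator_mem_commutator (hWV hw) hx))
      have := W.mul_mem h1 hw
      rwa [commutatorElement_def, inv_mul_cancel_right] at this
    rw [hE, Subgroup.sup_eq_closure]
    refine commutator_closure_le ?_ ?_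
    · rintro s (hs | hs)
      · exact hN hAV le_sup_left hs
      · exact hN hA'V le_sup_right hs
    · rintro v hv s (hs | hs)
      · exact le_sup_left (a := la) (commutator_mem_commutator hv hs)
      · exact le_sup_right (b := lb) (commutator_mem_commutator hv hs)
  -- no chain is stabilised
  have hchain : ∀ {X Y : Subgroup G}, X ⊔ Y = E → ∀ {l : Subgroup G}, l ≤ W →
      X ≤ centralizer (l : Set G) → Y ≤ centralizer (l : Set G) →
      ⁅W, X⁆ ≤ l → ⁅W, Y⁆ ≤ l → False := by
    intro X Y hXY l hlW hX hY hWX hWY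
    apply hnotp
    have hEl : E ≤ centralizer (l : Set G) := hXY ▸ sup_le hX hY
    have hWE : ⁅W, E⁆ ≤ l := by
      rw [← hXY, Subgroup.sup_eq_closure]
      refine commutator_closure_le (fun s hs => centralizer_le_normalizer _ ?_) ?_
      · exact hs.elim (fun h => hX h) (fun h => hY h)
      · rintro w hw s (hs | hs)
        · exact hWX (commutator_mem_commutator hw hs)
        · exact hWY (commutator_mem_commutator hw hs)
    obtain ⟨k, hk⟩ : ∃ k, k = orderOf (1 : G) := ⟨_, rfl⟩
    refine IsPGroup.iff_card.2 ?_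
    by_contra hno
    obtain ⟨q, hq, hqp, hqd⟩ : ∃ q, q.Prime ∧ q ≠ p ∧ q ∣ Nat.card E := by
      by_contra! h
      exact hno ⟨_, Nat.eq_prime_pow_of_unique_prime_dvd Nat.card_pos.ne'
        fun hd hdd => by_contra fun hne' => h _ hd hne' hdd⟩
    have := Fact.mk hq
    obtain ⟨y, hy⟩ := exists_prime_orderOf_dvd_card' q hqd
    have hyo : orderOf (y : G) = q := by rw [Subgroup.orderOf_coe, hy]
    have hstep : ∀ {v c : G}, c ∈ V → v ∈ V → (y : G) * c = c * y → ⁅(y : G), v⁆ = c → c = 1 := by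
      intro v c hc hv hyc he
      have hrec : ∀ n : ℕ, (y : G) ^ n * v * ((y : G) ^ n)⁻¹ = c ^ n * v := by
        intro n
        induction n with
        | zero => simp
        | succ n ih =>
          have h1 : (y : G) * c ^ n = c ^ n * y := (Commute.pow_right hyc n).eq
          have h2 : (y : G) * v = c * v * y := by
            rw [← he, commutatorElement_def]; group
          calc (y : G) ^ (n + 1) * v * ((y : G) ^ (n + 1))⁻¹
              = y * ((y : G) ^ n * v * ((y : G) ^ n)⁻¹) * (y : G)⁻¹ := by rw [pow_succ']; group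
            _ = c ^ n * (y * v) * (y : G)⁻¹ := by rw [ih, ← mul_assoc (y : G), h1]; group
            _ = c ^ (n + 1) * v := by rw [h2, pow_succ]; group
      have h3 := hrec q
      rw [← hyo, pow_orderOf_eq_one, one_mul, inv_one, mul_one, eq_comm, mul_eq_right, hyo] at h3
      have hpq : (p).Coprime q := (Nat.coprime_primes hp.out hq).2 hqp.symm
      have hc1 : c ^ Nat.gcd p q = 1 := pow_gcd_eq_one.2 ⟨hF.elem.2 c hc, h3⟩
      rwa [hpq.gcd_eq_one, pow_one] at hc1
    have hyV : (y : G) ∈ centralizer (W : Set G) := mem_centralizer_iff.2 fun w hw => by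
      have h1 : ⁅(y : G), w⁆ ∈ l := by
        rw [← commutatorElement_inv]
        exact l.inv_mem (hWE (commutator_mem_commutator hw y.2))
      have := hstep (hWV (hlW h1)) (hWV hw) (mem_centralizer_iff.1 (hEl y.2) _ h1).symm rfl
      exact (commutatorElement_eq_one_iff_mul_comm.1 this).symm
    have hy1 : (y : G) = 1 := hF.mem_of_centralizes (hEH y.2) (mem_centralizer_iff.2 fun v hv => by
      have h1 : ⁅(y : G), v⁆ ∈ W := by
        rw [← hEW, Subgroup.commutator_comm]
        exact commutator_mem_commutator y.2 hv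
      have := hstep (hWV h1) hv (mem_centralizer_iff.1 hyV _ h1).symm rfl
      exact (commutatorElement_eq_one_iff_mul_comm.1 this).symm)
    rw [hy1, orderOf_one] at hyo
    exact hq.ne_one hyo.symm
  have hline : ∀ {l : Subgroup G} {X : Subgroup G}, Nat.card l = p →
      ¬ X ≤ centralizer (l : Set G) → l ⊓ centralizer (X : Set G) = ⊥ := by
    intro l X hl hX
    rcases (Nat.dvd_prime hp.out).1 (hl ▸ card_dvd_of_le (inf_le_left : l ⊓ centralizer (X : Set G) ≤ l))
      with h | h
    · exact card_eq_one.1 h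
    · exact absurd (le_centralizer_iff.1
        ((eq_of_le_of_card_ge inf_le_left (hl.trans h.symm).le).ge.trans inf_le_right)) hX
  have hcommV : ∀ {X : Subgroup G}, X ≤ V → X ≤ centralizer (V : Set G) :=
    fun hX => hX.trans (PLocal.elemAb_le_centralizer hF.elem)
  have hWlX : ∀ {l : Subgroup G} {X : Subgroup G}, X ≤ centralizer (l : Set G) →
      X ≤ normalizer (l : Set G) := fun h => h.trans (centralizer_le_normalizer _)
  have hAnlb : ¬ A ≤ centralizer (lb : Set G) := by
    intro h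
    refine hchain rfl (le_sup_right : lb ≤ W) h hAlb ?_ (commutator_mono hWV le_rfl)
    have h1 : ⁅W, A⁆ = ⊥ := commutator_eq_bot_iff_le_centralizer.2 (sup_le
      (le_centralizer_iff.1 hAla) (le_centralizer_iff.1 h))
    rw [h1]; exact bot_le
  have hA'nla : ¬ A' ≤ centralizer (la : Set G) := by
    intro h
    refine hchain rfl (le_sup_left : la ≤ W) hAla h (commutator_mono hWV le_rfl) ?_
    have h1 : ⁅W, A'⁆ = ⊥ := commutator_eq_bot_iff_le_centralizer.2 (sup_le
      (le_centralizer_iff.1 h) (le_centralizer_iff.1 hAlb))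
    rw [h1]; exact bot_le
  have hlbA : lb ⊓ centralizer (A : Set G) = ⊥ := hline hlb hAnlb
  have hlaA' : la ⊓ centralizer (A' : Set G) = ⊥ := hline hla hA'nla
  have hlab : la ⊓ lb = ⊥ := le_bot_iff.1 ((inf_le_inf_left la (le_centralizer_iff.1 hAlb)).trans hlaA'.le)
  have hWcard : Nat.card W = p ^ 2 := by
    have h := PLocal.card_sup_mul_card_inf (H := la) (K := lb)
      (((hcommV hlbV).trans (centralizer_le hlaV)).trans (centralizer_le_normalizer _))
    rw [hlab, card_bot, mul_one, hla, hlb, ← pow_two] at h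
    exact h
  have hmemW : ∀ {x}, x ∈ W → ∃ u ∈ la, ∃ v ∈ lb, u * v = x := by
    intro x hx
    rw [hW, ← SetLike.mem_coe, Subgroup.coe_mul_of_right_le_normalizer_left la lb
      (((hcommV hlbV).trans (centralizer_le hlaV)).trans (centralizer_le_normalizer _))] at hx
    exact Set.mem_mul.1 hx
  have hinf : W ⊓ centralizer (E : Set G) = ⊥ := by
    rw [eq_bot_iff]
    rintro x ⟨hx, hxC⟩
    obtain ⟨u, hu, v, hv, rfl⟩ := hmemW hx
    have hcA : u * v ∈ centralizer (A : Set G) := centralizer_le (le_sup_left : A ≤ E) hxC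
    have hv' : v ∈ lb ⊓ centralizer (A : Set G) := ⟨hv, by
      have := mul_mem (inv_mem (le_centralizer_iff.1 hAla hu)) hcA
      rwa [inv_mul_cancel_left] at this⟩
    rw [hlbA, mem_bot] at hv'
    subst hv'
    rw [mul_one] at hxC ⊢
    have : u ∈ la ⊓ centralizer (A' : Set G) := ⟨hu, centralizer_le (le_sup_right : A' ≤ E) hxC⟩
    rwa [hlaA'] at this
  have hsup : W ⊔ (V ⊓ centralizer (E : Set G)) = V := by
    refine eq_of_le_of_card_ge (sup_le hWV inf_le_left) ?_
    have h := PLocal.card_sup_mul_card_inf (H := W) (K := V ⊓ centralizer (E : Set G))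
      (((hcommV inf_le_left).trans (centralizer_le hWV)).trans (centralizer_le_normalizer _))
    rw [show W ⊓ (V ⊓ centralizer (E : Set G)) = ⊥ from le_bot_iff.1
      ((inf_le_inf_left W inf_le_right).trans hinf.le), card_bot, mul_one, hWcard] at h
    rw [h]
    have hCE : V ⊓ centralizer (E : Set G) =
        (V ⊓ centralizer (A : Set G)) ⊓ (V ⊓ centralizer (A' : Set G)) := by
      rw [hE, PLocal.centralizer_sup, inf_inf_distrib_left]
    have h2 := PLocal.card_mul_card_le (V ⊓ centralizer (A : Set G)) (V ⊓ centralizer (A' : Set G))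
    rw [← hCE] at h2
    have h3 := h2.trans (Nat.mul_le_mul_right _ (PLocal.card_le_of_le
      (sup_le inf_le_left inf_le_left : (V ⊓ centralizer (A : Set G)) ⊔ (V ⊓ centralizer (A' : Set G)) ≤ V)))
    have hA1 := hT.card_mul
    rw [hT.1] at hA1
    have hA2 := hT'.card_mul
    rw [hT'.1] at hA2
    refine Nat.le_of_mul_le_mul_left ?_ (Nat.card_pos (α := V))
    calc Nat.card V * Nat.card V
        = p ^ 2 * (Nat.card ↥(V ⊓ centralizer (A : Set G)) * Nat.card ↥(V ⊓ centralizer (A' : Set G))) := by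
          nth_rw 1 [← hA1]; rw [← hA2]; ring
      _ ≤ p ^ 2 * (Nat.card V * Nat.card ↥(V ⊓ centralizer (E : Set G))) := Nat.mul_le_mul_left _ h3
      _ = _ := by ring
  have hfaith : E ⊓ centralizer (W : Set G) = ⊥ := by
    rw [eq_bot_iff]
    rintro y ⟨hyE, hyW⟩
    refine mem_bot.2 (hF.mem_of_centralizes (hEH hyE) (mem_centralizer_iff.2 fun v hv => ?_))
    have h : V ≤ centralizer {y} := hsup ▸ sup_le
      (fun w hw => mem_centralizer_singleton_iff.2 (mem_centralizer_iff.1 hyW w hw))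
      (fun u hu => mem_centralizer_singleton_iff.2 (mem_centralizer_iff.1 hu.2 y hyE).symm)
    exact mem_centralizer_singleton_iff.1 (h hv)
  have hEN : E ≤ normalizer (W : Set G) := by
    intro x hx
    refine Coprime.mem_normalizer_of_forall fun w hw => ?_
    have h1 : ⁅x, w⁆ ∈ W := by
      rw [← hEW, Subgroup.commutator_comm]
      exact commutator_mem_commutator hx (hWV hw)
    have := W.mul_mem h1 hw
    rwa [commutatorElement_def, inv_mul_cancel_right] at this
  -- coordinates
  obtain ⟨a, haA, hAgen, hao⟩ := hT.exists_gen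
  obtain ⟨b, hbA, hA'gen, hbo⟩ := hT'.exists_gen
  have ha1 : a ≠ 1 := fun e => hp.out.ne_one (by rw [← hao, e, orderOf_one])
  have hb1 : b ≠ 1 := fun e => hp.out.ne_one (by rw [← hbo, e, orderOf_one])
  obtain ⟨f, hf, hf1⟩ : ∃ f ∈ lb, f ≠ 1 :=
    by
      have hne0 : lb ≠ ⊥ := fun h => hp.out.ne_one (by rw [← hlb, h, card_bot])
      obtain ⟨x, hx⟩ := ne_bot_iff_exists_ne_one.1 hne0
      exact ⟨x, x.2, fun h => hx (Subtype.ext h)⟩
  have hane : ∀ {x}, x ∈ lb → ⁅a, x⁆ = 1 → x = 1 := fun hx h => by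
    have hmem : (_ : G) ∈ lb ⊓ centralizer (A : Set G) := ⟨hx, by
      show _ ∈ centralizer (A : Set G)
      rw [← hAgen, centralizer_zpowers, mem_centralizer_singleton_iff]
      exact (commutatorElement_eq_one_iff_mul_comm.1 h).symm⟩
    rwa [hlbA, mem_bot] at hmem
  set e := ⁅a, f⁆ with he
  have heLa : e ∈ la := by
    rw [hla', Subgroup.commutator_comm]
    exact commutator_mem_commutator haA (hlbV hf)
  have he1 : e ≠ 1 := fun h => hf1 (hane hf h)
  have hae : a * e * a⁻¹ = e := by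
    rw [← mem_centralizer_iff.1 (hAla haA) e heLa, mul_inv_cancel_right]
  have hbf : b * f * b⁻¹ = f := by
    rw [← mem_centralizer_iff.1 (hAlb hbA) f hf, mul_inv_cancel_right]
  have haf : a * f * a⁻¹ = e * f := by rw [he, commutatorElement_def]; group
  have hbe1 : ⁅b, e⁆ ∈ lb := by
    rw [hlb', Subgroup.commutator_comm]
    exact commutator_mem_commutator hbA (hlaV heLa)
  have hbe' : b * e * b⁻¹ ≠ e := fun h => by
    have : e ∈ la ⊓ centralizer (A' : Set G) := ⟨heLa, by
      show e ∈ centralizer (A' : Set G)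
      rw [← hA'gen, centralizer_zpowers, mem_centralizer_singleton_iff]
      exact (mul_inv_eq_iff_eq_mul.1 h).symm⟩
    rw [hlaA', mem_bot] at this
    exact he1 this
  have hbe : ∃ m : ℕ, b * e * b⁻¹ = e * f ^ m := by
    have hlbz : zpowers f = lb := by
      rcases (Nat.dvd_prime hp.out).1 (hlb ▸ card_dvd_of_le (zpowers_le.2 hf)) with h | h
      · exact absurd (zpowers_eq_bot.1 (card_eq_one.1 h)) hf1
      · exact eq_of_le_of_card_ge (zpowers_le.2 hf) (hlb.trans h.symm).le
    obtain ⟨m, hm⟩ : ∃ m : ℕ, f ^ m = ⁅b, e⁆ :=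
      mem_powers_iff_mem_zpowers.2 (hlbz.symm ▸ hbe1)
    refine ⟨m, ?_⟩
    rw [hm, PLocal.elemAb_comm hF.elem (hlaV heLa) (hlbV hbe1), commutatorElement_def]
    group
  obtain ⟨ι, hι, hrange, hfull⟩ := plane_action (PLocal.elemAb_mono hF.elem hWV) hWcard
    (hEN (le_sup_left (b := A') haA)) (hEN (le_sup_right (a := A) hbA))
    (le_sup_left (b := lb) heLa) (le_sup_right (a := la) hf) he1 hae hbf haf hbe hbe'
  set θ := W.normalizerMonoidHom
  have hEcl : E = Subgroup.closure {a, b} := by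
    rw [hE, ← hAgen, ← hA'gen, zpowers_eq_closure, zpowers_eq_closure, ← Subgroup.closure_union]
    rfl
  let θE : E →* MulAut W := θ.comp (Subgroup.inclusion hEN)
  have hθE : Function.Injective θE := by
    refine (injective_iff_map_eq_one θE).2 fun y hy => Subtype.ext ?_
    refine mem_bot.1 (hfaith ▸ (⟨y.2, mem_centralizer_iff.2 fun w hw => ?_⟩ : (y : G) ∈ E ⊓ _))
    have h1 : (y : G) * w * (y : G)⁻¹ = w :=
      congrArg Subtype.val (show θE y ⟨w, hw⟩ = (⟨w, hw⟩ : W) by rw [hy]; rfl)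
    exact (mul_inv_eq_iff_eq_mul.1 h1).symm
  have hθr : θE.range = ι.range := by
    rw [hrange, MonoidHom.range_comp, Subgroup.inclusion_range hEN]
    congr 1
    refine Subgroup.map_injective (normalizer (W : Set G)).subtype_injective ?_
    rw [MonoidHom.map_closure, Set.image_pair, Subgroup.map_subgroupOf_eq_of_le hEN]
    exact hEcl
  let iso : E ≃* Matrix.SpecialLinearGroup (Fin 2) (ZMod p) :=
    ((MonoidHom.ofInjective hθE).trans (MulEquiv.subgroupCongr hθr)).trans (MonoidHom.ofInjective hι).symm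
  refine ⟨?_, ?_⟩
  · by_contra hp23
    push Not at hp23
    have h5 : 5 ≤ p := by
      have := hp.out.two_le
      rcases Nat.lt_or_ge p 5 with h | h
      · interval_cases p <;> first | omega | exact absurd hp.out (by norm_num)
      · exact h
    have h2 : ∃ x : ZMod p, x ≠ 0 ∧ x ^ 2 ≠ 1 := by
      refine ⟨((2 : ℕ) : ZMod p), fun h => ?_, fun h => ?_⟩
      · rw [ZMod.natCast_eq_zero_iff] at h
        have := Nat.le_of_dvd (by norm_num) h
        omega
      · have h3 : ((3 : ℕ) : ZMod p) = 0 := by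
          have h4 : ((2 : ℕ) : ZMod p) ^ 2 = ((3 : ℕ) : ZMod p) + 1 := by push_cast; ring
          rw [h4, add_eq_right] at h
          exact h
        rw [ZMod.natCast_eq_zero_iff] at h3
        have := Nat.le_of_dvd (by norm_num) h3
        omega
    have htop := Linear.commutator_sl_eq_top (ι := Fin 2) (F := ZMod p) (Or.inr h2)
    have hperf : commutator E = ⊤ := by
      have h1 := map_commutator (⊤ : Subgroup (Matrix.SpecialLinearGroup (Fin 2) (ZMod p))) ⊤
        iso.symm.toMonoidHom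
      rw [Subgroup.map_top_of_surjective _ iso.symm.surjective, ← _root_.commutator_def, ← _root_.commutator_def, htop,
        Subgroup.map_top_of_surjective _ iso.symm.surjective] at h1
      exact h1.symm
    have hEK : E ≤ K := by
      have h1 : ⁅E, E⁆ ≤ K := by
        refine (commutator_mono hEKA hEKA).trans ?_
        have : IsMulCommutative A := hT.elemAb.1
        rw [Subgroup.sup_eq_closure]
        have hAK : ∀ s ∈ ((K : Set G) ∪ A), s ∈ normalizer (K : Set G) := fun s hs =>
          hs.elim (fun h => le_normalizer h) (fun h => hKA h)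
        refine commutator_closure_le hAK fun x hx s hs => ?_
        have hxN : x ∈ normalizer (K : Set G) := (Subgroup.closure_le _).2 hAK hx
        rcases hs with hs | hs
        · rw [commutatorElement_def]
          exact K.mul_mem ((mem_normalizer_iff.1 hxN s).1 hs) (K.inv_mem hs)
        · have h3 : ⁅A, Subgroup.closure ((K : Set G) ∪ A)⁆ ≤ K := by
            refine commutator_closure_le hAK fun u hu t ht => ?_
            rcases ht with ht | ht
            · rw [commutatorElement_def]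
              exact K.mul_mem ((mem_normalizer_iff.1 (hKA hu) t).1 ht) (K.inv_mem ht)
            · rw [commutatorElement_eq_one_iff_mul_comm.2
                (congrArg Subtype.val (mul_comm' (⟨u, hu⟩ : A) ⟨t, ht⟩))]
              exact K.one_mem
          rw [← commutatorElement_inv]
          exact K.inv_mem (h3 (commutator_mem_commutator hs hx))
      refine le_trans ?_ h1
      have := Subgroup.map_subtype_commutator E
      rw [hperf, PLocal.top_map_subtype] at this
      exact this.le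
    refine hT.ne_bot (le_bot_iff.1 ?_)
    rw [← Coprime.inf_eq_bot hcopA]
    exact le_inf le_rfl (le_sup_left.trans hEK)
  · rw [hEW]
    refine ⟨hWcard, hWV, hEW, hEN, hinf, hsup, hfaith, ⟨iso⟩, fun g hg hgp => ?_⟩
    have hα : (θ ⟨g, hg⟩) ^ p = 1 := by
      rw [← map_pow]
      refine MulEquiv.ext fun w => Subtype.ext ?_
      show g ^ p * (w : G) * (g ^ p)⁻¹ = w
      rw [← mem_centralizer_iff.1 hgp w w.2, mul_inv_cancel_right]
    obtain ⟨y, hy⟩ := MonoidHom.mem_range.1 (hθr.symm ▸ hfull _ hα)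
    refine ⟨y, y.2, mem_centralizer_iff.2 fun w hw => ?_⟩
    have h1 : (y : G) * w * (y : G)⁻¹ = g * w * g⁻¹ :=
      congrArg (fun α : MulAut W => ((α ⟨w, hw⟩ : W) : G)) hy
    calc w * ((y : G)⁻¹ * g) = (y : G)⁻¹ * ((y : G) * w * (y : G)⁻¹) * g := by group
      _ = _ := by rw [h1]; group

end Cfsg.Agent.FFPair
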