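import Cfsg.Agent.Lib.FFPair.Basic
import Cfsg.Agent.Lib.Linear.GenTools
import Mathlib.FieldTheory.Finite.Basic

/-!
# The action on a plane of two transvections

* `plane_action`: two elements acting on an elementary abelian group of order `p ^ 2` as transvections with
  different axes induce exactly `SL₂(p)`, which contains every element of order dividing `p`.
-/

open Subgroup Matrix
open scoped commutatorElement

namespace Cfsg.Agent.FFPair

variable {G : Type*} [Group G]

theorem transvection_natCast_mul {p : ℕ} [Fact p.Prime] {i j : Fin 2} (hij : i ≠ j) (c : ZMod p)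
    (k : ℕ) : SpecialLinearGroup.transvection hij ((k : ZMod p) * c) =
      SpecialLinearGroup.transvection hij c ^ k := by
  induction k with
  | zero => simp
  | succ k ih => rw [Nat.cast_succ, add_mul, one_mul, SpecialLinearGroup.transvection_add, pow_succ, ih]

theorem closure_transvection_pair {p : ℕ} [Fact p.Prime] {μ : ZMod p} (hμ : μ ≠ 0) :
    Subgroup.closure ({SpecialLinearGroup.transvection (zero_ne_one' (Fin 2)) 1,
      SpecialLinearGroup.transvection (zero_ne_one' (Fin 2)).symm μ} :
        Set (SpecialLinearGroup (Fin 2) (ZMod p))) = ⊤ := by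
  rw [eq_top_iff, ← Linear.closure_slTwo_prime p, Subgroup.closure_le]
  rintro _ (rfl | rfl)
  · exact subset_closure (Set.mem_insert _ _)
  · have h := transvection_natCast_mul (zero_ne_one' (Fin 2)).symm μ (μ⁻¹).val
    rw [ZMod.natCast_zmod_val, inv_mul_cancel₀ hμ] at h
    rw [SetLike.mem_coe, h]
    refine pow_mem ?_ _
    exact subset_closure (Or.inr (Set.mem_singleton _))

/-- Linear automorphisms of `Additive W` as automorphisms of `W`. -/
def linToMulAut {p : ℕ} {W : Type*} [CommGroup W] [Module (ZMod p) (Additive W)] :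
    (Additive W ≃ₗ[ZMod p] Additive W) →* MulAut W where
  toFun L :=
    { toFun := fun w => Additive.toMul (L (Additive.ofMul w))
      invFun := fun w => Additive.toMul (L.symm (Additive.ofMul w))
      left_inv := fun w => by simp
      right_inv := fun w => by simp
      map_mul' := fun x y => by simp }
  map_one' := rfl
  map_mul' _ _ := rfl

/-- Two elements inducing transvections with different axes on a plane generate `SL₂(p)` on it. -/
theorem plane_action {p : ℕ} [hp : Fact p.Prime] [Finite G] {W : Subgroup G} (hW : Cfsg.IsElementaryAbelian p W)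
    (hcard : Nat.card W = p ^ 2) {a b : G} (ha : a ∈ normalizer (W : Set G))
    (hb : b ∈ normalizer (W : Set G)) {e f : G} (heW : e ∈ W) (hfW : f ∈ W) (he : e ≠ 1)
    (hae : a * e * a⁻¹ = e) (hbf : b * f * b⁻¹ = f) (haf : a * f * a⁻¹ = e * f)
    (hbe : ∃ m : ℕ, b * e * b⁻¹ = e * f ^ m) (hbe' : b * e * b⁻¹ ≠ e) :
    ∃ ι : SpecialLinearGroup (Fin 2) (ZMod p) →* MulAut W, Function.Injective ι ∧
      ι.range = (Subgroup.closure ({⟨a, ha⟩, ⟨b, hb⟩} : Set ↥(normalizer (W : Set G)))).map
        W.normalizerMonoidHom ∧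
      ∀ α : MulAut W, α ^ p = 1 → α ∈ ι.range := by
  let _ : CommGroup W := { (inferInstance : Group W) with mul_comm := fun u v => hW.1.1.1 u v }
  let _ : Module (ZMod p) (Additive W) :=
    AddCommGroup.zmodModule (n := p) fun v =>
      congrArg Additive.ofMul (Subtype.ext (hW.2 _ (Additive.toMul v).2) : (Additive.toMul v : W) ^ p = 1)
  set E : Additive W := Additive.ofMul ⟨e, heW⟩ with hE
  set F : Additive W := Additive.ofMul ⟨f, hfW⟩ with hF
  set θ := W.normalizerMonoidHom with hθ
  let la : Additive W →ₗ[ZMod p] Additive W := (θ ⟨a, ha⟩).toMonoidHom.toAdditive.toZModLinearMap p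
  let lb : Additive W →ₗ[ZMod p] Additive W := (θ ⟨b, hb⟩).toMonoidHom.toAdditive.toZModLinearMap p
  have hla : ∀ (x : W), la (Additive.ofMul x) = Additive.ofMul (θ ⟨a, ha⟩ x) := fun _ => rfl
  have hlb : ∀ (x : W), lb (Additive.ofMul x) = Additive.ofMul (θ ⟨b, hb⟩ x) := fun _ => rfl
  obtain ⟨m, hm⟩ := hbe
  have haE : la E = E := congrArg Additive.ofMul (Subtype.ext hae)
  have haF : la F = E + F := congrArg Additive.ofMul (Subtype.ext haf)
  have hbF : lb F = F := congrArg Additive.ofMul (Subtype.ext hbf)
  have hbE : lb E = E + (m : ZMod p) • F := by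
    rw [Nat.cast_smul_eq_nsmul, hF, ← ofMul_pow]
    exact congrArg Additive.ofMul (Subtype.ext hm)
  have hE0 : E ≠ 0 := fun h => he (congrArg (fun x => ((Additive.toMul x : W) : G)) h)
  have hμ : (m : ZMod p) ≠ 0 := by
    intro h
    rw [h, zero_smul, add_zero] at hbE
    exact hbe' (congrArg (fun x => ((Additive.toMul x : W) : G)) hbE)
  have hind : ∀ i j : ZMod p, i • E + j • F = 0 → i = 0 ∧ j = 0 := by
    intro i j h
    have h1 := congrArg la h
    rw [map_add, map_smul, map_smul, haE, haF, map_zero, smul_add, ← add_assoc,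
      add_right_comm, h, zero_add] at h1
    have hj : j = 0 := (smul_eq_zero.1 h1).resolve_right hE0
    rw [hj, zero_smul, add_zero] at h
    exact ⟨(smul_eq_zero.1 h).resolve_right hE0, hj⟩
  let σ₀ : (Fin 2 → ZMod p) →ₗ[ZMod p] Additive W :=
    (LinearMap.proj 0).smulRight E + (LinearMap.proj 1).smulRight F
  have hσ₀ : ∀ z, σ₀ z = z 0 • E + z 1 • F := fun z => rfl
  have hσi : Function.Injective σ₀ := by
    refine (injective_iff_map_eq_zero σ₀).2 fun z hz => ?_
    obtain ⟨h0, h1⟩ := hind _ _ ((hσ₀ z).symm.trans hz)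
    funext k
    fin_cases k
    · exact h0
    · exact h1
  have hσb : Function.Bijective σ₀ := (Nat.bijective_iff_injective_and_card _).2 ⟨hσi, by
    rw [Nat.card_fun, Nat.card_zmod, Nat.card_eq_fintype_card (α := Fin 2), Fintype.card_fin]
    exact hcard.symm.trans (Nat.card_congr Additive.ofMul)⟩
  let σ : (Fin 2 → ZMod p) ≃ₗ[ZMod p] Additive W := LinearEquiv.ofBijective σ₀ hσb
  let ι : SpecialLinearGroup (Fin 2) (ZMod p) →* MulAut W :=
    linToMulAut.comp
      { toFun := fun M => σ.symm.trans ((SpecialLinearGroup.toLin' M).trans σ)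
        map_one' := LinearEquiv.ext fun v => by simp
        map_mul' := fun M N => LinearEquiv.ext fun v => by simp }
  have hι : ∀ M (z : Fin 2 → ZMod p), Additive.ofMul (ι M (Additive.toMul (σ z))) = σ (M • z) := by
    intro M z
    show σ (SpecialLinearGroup.toLin' M (σ.symm (σ z))) = _
    rw [LinearEquiv.symm_apply_apply]
    rfl
  have hext : ∀ {α β : MulAut W},
      (∀ z, Additive.ofMul (α (Additive.toMul (σ z))) = Additive.ofMul (β (Additive.toMul (σ z)))) →
      α = β := by
    intro α β h
    refine MulEquiv.ext fun w => ?_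
    obtain ⟨z, hz⟩ := σ.surjective (Additive.ofMul w)
    have := h z
    rw [hz] at this
    exact this
  have hA : ι (SpecialLinearGroup.transvection (zero_ne_one' (Fin 2)) 1) = θ ⟨a, ha⟩ := by
    refine hext fun z => ?_
    rw [hι]
    change σ₀ _ = la (σ₀ z)
    rw [hσ₀, hσ₀, map_add, map_smul, map_smul, haE, haF, Linear.transvection_smul_apply,
      Linear.transvection_smul_apply]
    simp only [one_mul, if_true, one_ne_zero, if_false, add_zero]
    module
  have hB : ι (SpecialLinearGroup.transvection (zero_ne_one' (Fin 2)).symm (m : ZMod p)) = θ ⟨b, hb⟩ := by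
    refine hext fun z => ?_
    rw [hι]
    change σ₀ _ = lb (σ₀ z)
    rw [hσ₀, hσ₀, map_add, map_smul, map_smul, hbE, hbF, Linear.transvection_smul_apply,
      Linear.transvection_smul_apply]
    simp only [if_true, zero_ne_one, if_false, add_zero]
    module
  refine ⟨ι, fun M N h => ?_, ?_, fun α hα => ?_⟩
  · refine Linear.sl_ext_smul fun z => σ.injective ?_
    rw [← hι, ← hι, h]
  · rw [MonoidHom.map_closure, MonoidHom.range_eq_map, ← closure_transvection_pair hμ,
      MonoidHom.map_closure, Set.image_pair, Set.image_pair, hA, hB]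
  · let L : Additive W →ₗ[ZMod p] Additive W := α.toMonoidHom.toAdditive.toZModLinearMap p
    let M : Module.End (ZMod p) (Fin 2 → ZMod p) :=
      (σ.symm : Additive W →ₗ[ZMod p] Fin 2 → ZMod p).comp
        (L.comp (σ : (Fin 2 → ZMod p) →ₗ[ZMod p] Additive W))
    have hMpow : ∀ k : ℕ, ∀ z, σ ((M ^ k) z) = Additive.ofMul ((α ^ k) (Additive.toMul (σ z))) := by
      intro k
      induction k with
      | zero => intro z; rfl
      | succ k ih =>
        intro z
        rw [pow_succ', Module.End.mul_apply, pow_succ']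
        show σ (σ.symm (L (σ ((M ^ k) z)))) = _
        rw [LinearEquiv.apply_symm_apply, ih]
        rfl
    have hMp : M ^ p = 1 := by
      refine LinearMap.ext fun z => σ.injective ?_
      rw [hMpow, hα]
      rfl
    have hdet : (LinearMap.toMatrix' M).det = 1 := by
      have h1 := congrArg LinearMap.det hMp
      rw [map_pow, map_one, ZMod.pow_card] at h1
      rw [LinearMap.det_toMatrix']
      exact h1
    let N : SpecialLinearGroup (Fin 2) (ZMod p) := ⟨LinearMap.toMatrix' M, hdet⟩
    refine ⟨N, hext fun z => ?_⟩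
    rw [hι N z]
    have h2 := hMpow 1 z
    rw [pow_one, pow_one] at h2
    rw [← h2]
    congr 1
    exact LinearMap.toMatrix'_mulVec M z

end Cfsg.Agent.FFPair
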