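import Cfsg.Agent.Lib.FFPair.Pair
import Cfsg.Agent.Lib.Coprime.Invariant
import Cfsg.Agent.Lib.Coprime.Factorization
import Cfsg.Agent.Lib.Coprime.Abelian
import Cfsg.Agent.Lib.GLOrder.Basic

/-!
# The structure of failure of factorisation

* `qOf p`: `3` for `p = 2`, `2` for `p = 3`
* `IsFactor`, `IsFF.exists_factor`: `[K, A] A` is `SL₂(p)` on a plane
* `IsFF.dichotomy`: two factors are equal or commute
-/

open Subgroup
open scoped commutatorElement Pointwise

namespace Cfsg.Agent.FFPair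

variable {G : Type*} [Group G] {p : ℕ} {V H K A B : Subgroup G}

/-- The prime dividing `p ^ 2 - 1`, for `p = 2, 3`. -/
def qOf (p : ℕ) : ℕ := if p = 2 then 3 else 2

theorem qOf_prime (p : ℕ) : (qOf p).Prime := by
  unfold qOf; split <;> norm_num

theorem IsTv.conj (h : IsTv p V A) {x : G} (hx : x ∈ normalizer (V : Set G)) :
    IsTv p V (A.map (MulAut.conj x).toMonoidHom) := by
  have hi : Function.Injective (MulAut.conj x).toMonoidHom := (MulAut.conj x).injective
  refine ⟨(card_map_of_injective hi).trans h.1, ?_⟩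
  have hV : V.map (MulAut.conj x).toMonoidHom = V := PLocal.mem_normalizer_iff_map_eq.1 hx
  have h1 : V ⊓ centralizer ((A.map (MulAut.conj x).toMonoidHom : Subgroup G) : Set G) =
      (V ⊓ centralizer (A : Set G)).map (MulAut.conj x).toMonoidHom := by
    rw [Subgroup.map_inf _ _ _ hi, hV]
    congr 1
    ext g
    constructor
    · intro hg
      refine ⟨x⁻¹ * g * x, mem_centralizer_iff.2 fun a ha => ?_, by simp [mul_assoc]⟩
      have h2 : x * a * x⁻¹ * g = g * (x * a * x⁻¹) := mem_centralizer_iff.1 hg _ ⟨a, ha, rfl⟩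
      calc a * (x⁻¹ * g * x) = x⁻¹ * (x * a * x⁻¹ * g) * x := by group
        _ = _ := by rw [h2]; group
    · rintro ⟨c, hc, rfl⟩
      refine mem_centralizer_iff.2 ?_
      rintro _ ⟨a, ha, rfl⟩
      rw [← map_mul, ← map_mul, mem_centralizer_iff.1 hc a ha]
  rw [h1]
  nth_rw 2 [← hV]
  rw [Subgroup.relIndex_map_map_of_injective _ _ hi]
  exact h.2

variable [Finite G]

/-- Commutators of elements normalising a subgroup of prime order centralise it. -/
theorem commutator_mem_centralizer_line [hp : Fact p.Prime] {X : Subgroup G} (hX : Nat.card X = p)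
    {x y : G} (hx : x ∈ normalizer (X : Set G)) (hy : y ∈ normalizer (X : Set G)) :
    ⁅x, y⁆ ∈ centralizer (X : Set G) := by
  have : IsCyclic X := isCyclic_of_prime_card hX
  obtain ⟨e, he⟩ := IsCyclic.exists_generator (α := X)
  have hcomm : ∀ α β : MulAut X, α * β = β * α := by
    intro α β
    refine MulEquiv.ext fun z => ?_
    obtain ⟨k, rfl⟩ := mem_zpowers_iff.1 (he z)
    obtain ⟨i, hi⟩ := mem_zpowers_iff.1 (he (α e))
    obtain ⟨j, hj⟩ := mem_zpowers_iff.1 (he (β e))
    show α (β (e ^ k)) = β (α (e ^ k))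
    rw [map_zpow, map_zpow, map_zpow, map_zpow, ← hj, map_zpow, ← hi, map_zpow, ← hj, ← zpow_mul,
      ← zpow_mul, ← zpow_mul, ← zpow_mul]
    congr 1
    ring
  have h1 : X.normalizerMonoidHom ⁅(⟨x, hx⟩ : normalizer (X : Set G)), ⟨y, hy⟩⁆ = 1 := by
    rw [map_commutatorElement]
    exact commutatorElement_eq_one_iff_mul_comm.2 (hcomm _ _)
  refine mem_centralizer_iff.2 fun v hv => ?_
  have h2 : ⁅x, y⁆ * v * ⁅x, y⁆⁻¹ = v :=
    congrArg (fun α : MulAut X => ((α ⟨v, hv⟩ : X) : G)) h1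
  exact (mul_inv_eq_iff_eq_mul.1 h2).symm

/-- A `p`-group normalising a subgroup of order `p` centralises it. -/
theorem centralizes_line [hp : Fact p.Prime] {X : Subgroup G} (hX : Nat.card X = p) (hA : IsPGroup p A)
    (hAX : A ≤ normalizer (X : Set G)) : A ≤ centralizer (X : Set G) := by
  have hne : ¬ X ≤ ⁅X, A⁆ := fun hle => by
    have := PLocal.eq_bot_of_le_commutator_pgroup (p := p) (IsPGroup.iff_card.2 ⟨1, by rw [hX, pow_one]⟩) hAX
      (fun x hx => by
        obtain ⟨k, hk⟩ := hA ⟨x, hx⟩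
        refine ⟨k, ?_⟩
        have : x ^ p ^ k = 1 := congrArg Subtype.val hk
        rw [this]; exact one_mem _) le_rfl hle
    rw [this, card_bot] at hX
    exact hp.out.ne_one hX.symm
  have hle : ⁅X, A⁆ ≤ X := le_normalizer_iff_commutator_le_left.1 hAX
  rcases (Nat.dvd_prime hp.out).1 (hX ▸ card_dvd_of_le hle) with h1 | h1
  · rw [le_centralizer_iff]
    exact commutator_eq_bot_iff_le_centralizer.1 (card_eq_one.1 h1)
  · exact absurd (eq_of_le_of_card_ge hle (hX.trans h1.symm).le).ge hne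

theorem nonabelian_SL_three {R : Subgroup (Matrix.SpecialLinearGroup (Fin 2) (ZMod 3))}
    (hR : Nat.card R = 8) (hRn : R.Normal) : ¬ IsMulCommutative R := by
  intro hc
  have := Fact.mk Nat.prime_two
  let i : Matrix.SpecialLinearGroup (Fin 2) (ZMod 3) := ⟨!![0, -1; 1, 0], by decide⟩
  let j : Matrix.SpecialLinearGroup (Fin 2) (ZMod 3) := ⟨!![1, 1; 1, -1], by decide⟩
  have hmem : ∀ x : Matrix.SpecialLinearGroup (Fin 2) (ZMod 3), x ^ 4 = 1 → x ∈ R := by
    intro x hx
    refine Coprime.mem_of_pow_mem (n := R.index) ?_ (R.pow_index_mem x)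
    have h24 : R.index = 3 := by
      have h1 := R.card_mul_index
      rw [hR, GLOrder.card_SL_two, Nat.card_zmod] at h1
      omega
    rw [h24]
    exact Nat.Coprime.coprime_dvd_left (orderOf_dvd_of_pow_eq_one hx) (by norm_num)
  have hi : i ^ 4 = 1 := Subtype.ext (by decide)
  have hj : j ^ 4 = 1 := Subtype.ext (by decide)
  have h : i * j = j * i := congrArg Subtype.val (mul_comm' (⟨i, hmem i hi⟩ : R) ⟨j, hmem j hj⟩)
  have h' := congrArg Subtype.val h
  revert h'
  decide

/-- A plane `W` with its `SL₂(p)`, whose normal `p`-complement is `R`. -/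
structure IsFactor (p : ℕ) (V K A R E W : Subgroup G) : Prop where
  plane : IsPlane p V E W
  small : p = 2 ∨ p = 3
  eq_sup : E = R ⊔ A
  eq_inf : R = E ⊓ K
  card : Nat.card R = p ^ 2 - 1
  irr : W ⊓ centralizer (R : Set G) = ⊥
  comm : ⁅V, R⁆ = W
  fix : V ⊓ centralizer (R : Set G) = V ⊓ centralizer (E : Set G)
  nonab : p = 3 → ¬ IsMulCommutative R

theorem IsFactor.isPGroup [hp : Fact p.Prime] {R E W : Subgroup G} (h : IsFactor p V K A R E W) :
    IsPGroup (qOf p) R := by
  have := Fact.mk (qOf_prime p)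
  rcases h.small with rfl | rfl
  · exact IsPGroup.iff_card.2 ⟨1, by rw [h.card]; rfl⟩
  · exact IsPGroup.iff_card.2 ⟨3, by rw [h.card]; rfl⟩

/-- A transvection subgroup and a different one in `K A` generate a factor. -/
theorem IsFF.pair_factor [hp : Fact p.Prime] (hF : IsFF p V H K) {A' : Subgroup G} (hA : A ≤ H) (hA' : A' ≤ H)
    (hT : IsTv p V A) (hT' : IsTv p V A') (hle : A' ≤ K ⊔ A) (hne : A' ≠ A) :
    IsFactor p V K A ((A ⊔ A') ⊓ K) (A ⊔ A') ⁅V, A ⊔ A'⁆ := by
  obtain ⟨hsmall, hP⟩ := hF.pair hA hA' hT hT' hle hne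
  set E := A ⊔ A' with hE
  set W := ⁅V, E⁆
  set R := E ⊓ K with hR
  have hAV : A ≤ normalizer (V : Set G) := hA.trans hF.norm
  have hKA : A ≤ normalizer (K : Set G) := hA.trans hF.normK
  have hcop : (Nat.card A).Coprime (Nat.card K) := hT.1 ▸ hF.cop.symm
  have hER : E = R ⊔ A := by
    refine le_antisymm (fun x hx => ?_) (sup_le inf_le_left le_sup_left)
    have hx' : x ∈ K ⊔ A := sup_le le_sup_right hle hx
    obtain ⟨k, hk, a, ha, rfl⟩ := (Coprime.mem_sup_iff hKA).1 hx'
    refine mul_mem_sup ⟨?_, hk⟩ ha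
    have := E.mul_mem hx (E.inv_mem (le_sup_left (b := A') ha))
    rwa [mul_inv_cancel_right] at this
  have hRA : A ≤ normalizer (R : Set G) := fun a ha => Coprime.mem_normalizer_of_forall fun r hr =>
    ⟨E.mul_mem (E.mul_mem (le_sup_left (b := A') ha) hr.1) (E.inv_mem (le_sup_left (b := A') ha)),
      (mem_normalizer_iff.1 (hKA ha) r).1 hr.2⟩
  have hRc : Nat.card R = p ^ 2 - 1 := by
    obtain ⟨e⟩ := hP.iso
    have h1 := Coprime.card_sup_of_coprime hRA
      (hcop.symm.coprime_dvd_left (card_dvd_of_le inf_le_right))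
    rw [← hER, Nat.card_congr e.toEquiv, GLOrder.card_SL_two, Nat.card_zmod, hT.1, mul_comm] at h1
    exact (Nat.eq_of_mul_eq_mul_right hp.out.pos h1).symm
  have hR1 : R ≠ ⊥ := fun h => by
    rw [h, card_bot] at hRc
    rcases hsmall with rfl | rfl <;> simp at hRc
  have hRE : R ≤ E := inf_le_left
  have hirr : W ⊓ centralizer (R : Set G) = ⊥ := by
    set X := W ⊓ centralizer (R : Set G) with hX
    have hnW : X ≠ W := fun h => hR1 (le_bot_iff.1 (hP.faith ▸ le_inf hRE
      (le_centralizer_iff.1 (inf_eq_left.1 h))))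
    obtain ⟨i, hi2, hi⟩ := (Nat.dvd_prime_pow hp.out).1
      (hP.card ▸ card_dvd_of_le (inf_le_left : X ≤ W))
    interval_cases i
    · exact card_eq_one.1 (by rw [hi, pow_zero])
    · exfalso
      rw [pow_one] at hi
      have hAX : A ≤ normalizer (X : Set G) := fun a ha =>
        Coprime.mem_normalizer_of_forall fun x hx =>
          ⟨(mem_normalizer_iff.1 (hP.norm (le_sup_left (b := A') ha)) x).1 hx.1,
            (mem_normalizer_iff.1 (PLocal.normalizer_le_normalizer_centralizer _ (hRA ha)) x).1 hx.2⟩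
      have hAC := centralizes_line hi (IsPGroup.iff_card.2 ⟨1, by rw [hT.1, pow_one]⟩) hAX
      have hEX : X ≤ centralizer (E : Set G) := by
        rw [le_centralizer_iff, hER]
        exact sup_le (le_centralizer_iff.1 inf_le_right) hAC
      have : X = ⊥ := le_bot_iff.1 (hP.inf ▸ le_inf inf_le_left hEX)
      have hi' : Nat.card X = p := hi
      rw [this, card_bot] at hi'
      exact hp.out.ne_one hi'.symm
    · exact absurd (eq_of_le_of_card_ge inf_le_left (by rw [hi, hP.card])) hnW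
  have hRV : R ≤ normalizer (V : Set G) := hRE.trans ((sup_le hA hA').trans hF.norm)
  have hcomm : ⁅V, R⁆ = W := by
    refine le_antisymm (commutator_mono le_rfl hRE) ?_
    have : IsMulCommutative W := (PLocal.elemAb_mono hF.elem hP.le).1
    have hcopW : (Nat.card R).Coprime (Nat.card W) := by
      rw [hP.card]
      exact (hF.cop.coprime_dvd_left (card_dvd_of_le inf_le_right)).pow_right 2
    have h := Coprime.abelian_sup_eq (hRE.trans hP.norm) hcopW
    rw [hirr, bot_sup_eq] at h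
    exact h.ge.trans (commutator_mono hP.le le_rfl)
  have hfix : V ⊓ centralizer (R : Set G) = V ⊓ centralizer (E : Set G) := by
    refine le_antisymm (fun v hv => ?_) (inf_le_inf_left V (centralizer_le hRE))
    have hv' : v ∈ W ⊔ (V ⊓ centralizer (E : Set G)) := hP.sup.symm ▸ hv.1
    rw [← SetLike.mem_coe, Subgroup.coe_mul_of_right_le_normalizer_left _ _
      ((inf_le_left.trans ((PLocal.elemAb_le_centralizer hF.elem).trans (centralizer_le hP.le))).trans
        (centralizer_le_normalizer _))] at hv'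
    obtain ⟨w, hw, u, hu, rfl⟩ := Set.mem_mul.1 hv'
    have : w ∈ W ⊓ centralizer (R : Set G) := ⟨hw, by
      have := (centralizer (R : Set G)).mul_mem hv.2
        ((centralizer (R : Set G)).inv_mem (centralizer_le hRE hu.2))
      rwa [mul_inv_cancel_right] at this⟩
    rw [hirr, mem_bot] at this
    rw [this, one_mul]
    exact hu
  refine ⟨hP, hsmall, hER, rfl, hRc, hirr, hcomm, hfix, fun h3 hc => ?_⟩
  subst h3
  obtain ⟨e⟩ := hP.iso
  have hn : (R.subgroupOf E).Normal := normal_subgroupOf_of_le_normalizer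
    (hER.le.trans (sup_le le_normalizer hRA))
  refine nonabelian_SL_three (R := (R.subgroupOf E).map e.toMonoidHom) ?_ (hn.map _ e.surjective) ?_
  · rw [card_map_of_injective e.injective, Nat.card_congr (subgroupOfEquivOfLe hRE).toEquiv, hRc]
    rfl
  · refine ⟨⟨?_⟩⟩
    rintro ⟨_, x, hx, rfl⟩ ⟨_, y, hy, rfl⟩
    refine Subtype.ext ?_
    show e x * e y = e y * e x
    rw [← map_mul, ← map_mul]
    exact congrArg e (Subtype.ext (congrArg (Subtype.val : R → G) (mul_comm' (⟨(x : G), hx⟩ : R) ⟨y, hy⟩)))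

/-- An element acting as one of order dividing `p` on the plane and trivially on its complement lies in `E`. -/
theorem IsFF.mem_of_plane [hp : Fact p.Prime] (hF : IsFF p V H K) {E W : Subgroup G} (hE : E ≤ H)
    (hP : IsPlane p V E W) {g : G} (hg : g ∈ H) (hgW : g ∈ normalizer (W : Set G))
    (hgp : g ^ p ∈ centralizer (W : Set G))
    (hgU : g ∈ centralizer ((V ⊓ centralizer (E : Set G) : Subgroup G) : Set G)) : g ∈ E := by
  obtain ⟨e, he, hc⟩ := hP.full g hgW hgp
  have h : V ≤ centralizer {e⁻¹ * g} := hP.sup ▸ sup_le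
    (fun w hw => mem_centralizer_singleton_iff.2 (mem_centralizer_iff.1 hc w hw))
    (fun u hu => mem_centralizer_singleton_iff.2 (mem_centralizer_iff.1
      (mul_mem (inv_mem (le_centralizer_iff.1 (inf_le_right : V ⊓ centralizer (E : Set G) ≤ _) he)) hgU) u hu))
  have h1 := hF.mem_of_centralizes (H.mul_mem (H.inv_mem (hE he)) hg)
    (mem_centralizer_iff.2 fun v hv => mem_centralizer_singleton_iff.1 (h hv))
  rw [inv_mul_eq_one] at h1
  exact h1 ▸ he

/-- `R'` normalising `R`: the planes are equal, or that of `R'` lies in `C_V(R)`. -/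
theorem IsFactor.dichotomy [hp : Fact p.Prime] (hF : IsFF p V H K) {B R R' E E' W W' : Subgroup G}
    (h : IsFactor p V K A R E W) (h' : IsFactor p V K B R' E' W') (hEH : E ≤ H) (hE'H : E' ≤ H)
    (hn : R' ≤ normalizer (R : Set G)) :
    W' = W ∨ W' ≤ V ⊓ centralizer (E : Set G) := by
  set U := V ⊓ centralizer (E : Set G) with hU
  have hR'E' : R' ≤ E' := h'.eq_inf.le.trans inf_le_left
  have hR'V : R' ≤ normalizer (V : Set G) := hR'E'.trans (hE'H.trans hF.norm)
  have hnW : R' ≤ normalizer (W : Set G) := fun r hr => Coprime.mem_normalizer_of_forall fun w hw => by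
    have h1 : (⁅V, R⁆).map (MulAut.conj r).toMonoidHom = ⁅V, R⁆ := by
      rw [Subgroup.map_commutator, PLocal.mem_normalizer_iff_map_eq.1 (hR'V hr),
        PLocal.mem_normalizer_iff_map_eq.1 (hn hr)]
    rw [h.comm] at h1
    exact h1 ▸ mem_map_of_mem _ hw
  have hnU : R' ≤ normalizer (U : Set G) := fun r hr => Coprime.mem_normalizer_of_forall fun u hu => by
    rw [hU, ← h.fix] at hu ⊢
    exact ⟨(mem_normalizer_iff.1 (hR'V hr) u).1 hu.1,
      (mem_normalizer_iff.1 (PLocal.normalizer_le_normalizer_centralizer _ (hn hr)) u).1 hu.2⟩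
  set X := ⁅W, R'⁆ with hX
  set Y := ⁅U, R'⁆ with hY
  have hXW : X ≤ W := le_normalizer_iff_commutator_le_left.1 hnW
  have hYU : Y ≤ U := le_normalizer_iff_commutator_le_left.1 hnU
  have hle : ∀ {L : Subgroup G}, R' ≤ normalizer (L : Set G) → ⁅W, R'⁆ ≤ L → ⁅U, R'⁆ ≤ L →
      W' ≤ L := by
    intro L hL hWL hUL
    rw [← h'.comm, Subgroup.commutator_le]
    intro v hv r hr
    have hv' : v ∈ W ⊔ U := h.plane.sup.symm ▸ hv
    rw [← SetLike.mem_coe, Subgroup.coe_mul_of_right_le_normalizer_left _ _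
      ((inf_le_left.trans ((PLocal.elemAb_le_centralizer hF.elem).trans (centralizer_le h.plane.le))).trans
        (centralizer_le_normalizer _))] at hv'
    obtain ⟨w, hw, u, hu, rfl⟩ := Set.mem_mul.1 hv'
    rw [commutatorElement_mul_left_eq_conj_mul]
    refine L.mul_mem ?_ (hWL (commutator_mem_commutator hw hr))
    have hcu : ⁅u, r⁆ ∈ U := hYU (commutator_mem_commutator hu hr)
    rw [PLocal.elemAb_comm hF.elem (h.plane.le hw) hcu.1, mul_inv_cancel_right]
    exact hUL (commutator_mem_commutator hu hr)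
  by_cases hY0 : Y = ⊥
  · left
    refine eq_of_le_of_card_ge (hle hnW hXW (hY0.le.trans bot_le)) ?_
    rw [h.plane.card, h'.plane.card]
  by_cases hX0 : X = ⊥
  · right
    exact hle hnU (hX0.le.trans bot_le) hYU
  exfalso
  have hXW' : X ≤ W' := h'.comm ▸ commutator_mono h.plane.le le_rfl
  have hYW' : Y ≤ W' := h'.comm ▸ commutator_mono inf_le_left le_rfl
  have hXY : X ⊓ Y = ⊥ :=
    le_bot_iff.1 ((inf_le_inf hXW (hYU.trans inf_le_right)).trans h.plane.inf.le)
  have hV : IsPGroup p V := PLocal.elemAb_isPGroup hF.elem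
  have hcardX : ∀ {Z Z' : Subgroup G}, Z ≤ W' → Z' ≤ W' → Z ⊓ Z' = ⊥ → Z ≠ ⊥ → Z' ≠ ⊥ → Nat.card Z = p := by
    intro Z Z' hZ hZ' hdis hZ0 hZ'0
    obtain ⟨i, hi2, hi⟩ := (Nat.dvd_prime_pow hp.out).1 (h'.plane.card ▸ card_dvd_of_le hZ)
    interval_cases i
    · exact absurd (card_eq_one.1 (by rw [hi, pow_zero])) hZ0
    · rw [hi, pow_one]
    · have := eq_of_le_of_card_ge hZ (by rw [hi, h'.plane.card])
      rw [this, inf_eq_right.2 hZ'] at hdis
      exact absurd hdis hZ'0
  have hXc := hcardX hXW' hYW' hXY hX0 hY0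
  have hYc := hcardX hYW' hXW' (inf_comm X Y ▸ hXY) hY0 hX0
  have hRX : R' ≤ normalizer (X : Set G) := Subgroup.normalizer_commutator_ge_right W R'
  have hRY : R' ≤ normalizer (Y : Set G) := Subgroup.normalizer_commutator_ge_right U R'
  have hXYW : X ⊔ Y = W' := by
    refine eq_of_le_of_card_ge (sup_le hXW' hYW') ?_
    have h2 := PLocal.card_sup_mul_card_inf (H := X) (K := Y)
      (((hYW'.trans h'.plane.le).trans ((PLocal.elemAb_le_centralizer hF.elem).trans
        (centralizer_le (hXW'.trans h'.plane.le)))).trans (centralizer_le_normalizer _))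
    rw [hXY, card_bot, mul_one, hXc, hYc, ← pow_two] at h2
    rw [h2, h'.plane.card]
  rcases h'.small with rfl | rfl
  · refine hX0 (le_bot_iff.1 (le_trans (le_inf hXW' ?_) h'.irr.le))
    rw [le_centralizer_iff]
    intro r hr
    refine mem_centralizer_iff.2 fun x hx => ?_
    have hx' : r * x * r⁻¹ = x := by
      have hmem := (mem_normalizer_iff.1 (hRX hr) x).1 hx
      by_cases hx1 : x = 1
      · rw [hx1, mul_one, mul_inv_cancel]
      · have hne : r * x * r⁻¹ ≠ 1 := fun e => hx1 (conj_eq_one_iff.1 e)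
        have h2 := Nat.card_eq_two_iff' (1 : X) |>.1 hXc
        exact congrArg Subtype.val (h2.unique (y₁ := (⟨_, hmem⟩ : X)) (y₂ := ⟨x, hx⟩)
          (fun e => hne (congrArg Subtype.val e)) (fun e => hx1 (congrArg Subtype.val e)))
    exact (mul_inv_eq_iff_eq_mul.1 hx').symm
  · refine h'.nonab rfl ⟨⟨fun x y => Subtype.ext ?_⟩⟩
    have h1 := commutator_mem_centralizer_line hXc (hRX x.2) (hRX y.2)
    have h2 := commutator_mem_centralizer_line hYc (hRY x.2) (hRY y.2)
    have hW' : ⁅(x : G), (y : G)⁆ ∈ centralizer (W' : Set G) := by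
      rw [← hXYW, PLocal.centralizer_sup]
      exact ⟨h1, h2⟩
    have : ⁅(x : G), (y : G)⁆ ∈ E' ⊓ centralizer (W' : Set G) :=
      ⟨E'.mul_mem (E'.mul_mem (E'.mul_mem (hR'E' x.2) (hR'E' y.2)) (E'.inv_mem (hR'E' x.2)))
        (E'.inv_mem (hR'E' y.2)), hW'⟩
    rw [h'.plane.faith, mem_bot] at this
    exact commutatorElement_eq_one_iff_mul_comm.1 this

theorem IsFactor.fix_eq [hp : Fact p.Prime] (hF : IsFF p V H K) {B R R' E E' W W' : Subgroup G}
    (h : IsFactor p V K A R E W) (h' : IsFactor p V K B R' E' W') (hE'H : E' ≤ H)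
    (hn : R' ≤ normalizer (R : Set G)) (hW : W' = W) :
    V ⊓ centralizer (E' : Set G) = V ⊓ centralizer (E : Set G) := by
  subst hW
  have hR'V : R' ≤ normalizer (V : Set G) := h'.eq_inf.le.trans (inf_le_left.trans (hE'H.trans hF.norm))
  have hle : V ⊓ centralizer (E : Set G) ≤ V ⊓ centralizer (E' : Set G) := by
    rw [← h.fix, ← h'.fix]
    refine le_inf inf_le_left ?_
    rw [← commutator_eq_bot_iff_le_centralizer, ← le_bot_iff, ← h.irr]
    refine le_inf (h'.comm ▸ commutator_mono inf_le_left le_rfl) ?_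
    refine (le_normalizer_iff_commutator_le_left.1 fun r hr =>
      Coprime.mem_normalizer_of_forall fun u hu => ?_).trans inf_le_right
    exact ⟨(mem_normalizer_iff.1 (hR'V hr) u).1 hu.1,
      (mem_normalizer_iff.1 (PLocal.normalizer_le_normalizer_centralizer _ (hn hr)) u).1 hu.2⟩
  refine (eq_of_le_of_card_ge hle ?_).symm
  have key : ∀ {F : Subgroup G}, IsPlane p V F W' →
      Nat.card ↥(V ⊓ centralizer (F : Set G)) * p ^ 2 = Nat.card V := by
    intro F hP
    have h := PLocal.card_sup_mul_card_inf (H := W') (K := V ⊓ centralizer (F : Set G))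
      ((inf_le_left.trans ((PLocal.elemAb_le_centralizer hF.elem).trans (centralizer_le hP.le))).trans
        (centralizer_le_normalizer _))
    rw [hP.sup, show W' ⊓ (V ⊓ centralizer (F : Set G)) = ⊥ from le_bot_iff.1
      ((inf_le_inf_left W' inf_le_right).trans hP.inf.le), card_bot, mul_one, hP.card] at h
    rw [h, mul_comm]
  exact (Nat.eq_of_mul_eq_mul_right (pow_pos hp.out.pos 2) ((key h.plane).trans (key h'.plane).symm)).ge

/-- Factors on independent planes commute. -/
theorem IsFactor.commute [hp : Fact p.Prime] (hF : IsFF p V H K) {B R R' E E' W W' : Subgroup G}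
    (h : IsFactor p V K A R E W) (h' : IsFactor p V K B R' E' W') (hEH : E ≤ H) (hE'H : E' ≤ H)
    (h1 : W' ≤ V ⊓ centralizer (E : Set G)) (h2 : W ≤ V ⊓ centralizer (E' : Set G)) :
    E' ≤ centralizer (E : Set G) := by
  intro y hy
  refine mem_centralizer_iff.2 fun x hx => ?_
  refine commutatorElement_eq_one_iff_mul_comm.1 (hF.mem_of_centralizes
    (H.mul_mem (H.mul_mem (H.mul_mem (hEH hx) (hE'H hy)) (H.inv_mem (hEH hx))) (H.inv_mem (hE'H hy)))
    (mem_centralizer_iff.2 fun v hv => (?_ : v * ⁅x, y⁆ = ⁅x, y⁆ * v)))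
  -- the three summands
  have hV : V ≤ W ⊔ (W' ⊔ (V ⊓ centralizer (E : Set G) ⊓ centralizer (E' : Set G))) := by
    intro v hv
    have hn : ∀ {X Y : Subgroup G}, X ≤ V → Y ≤ V → Y ≤ normalizer (X : Set G) := fun hX hY =>
      ((hY.trans (PLocal.elemAb_le_centralizer hF.elem)).trans (centralizer_le hX)).trans
        (centralizer_le_normalizer _)
    have hv1 : v ∈ W ⊔ (V ⊓ centralizer (E : Set G)) := h.plane.sup.symm ▸ hv
    rw [← SetLike.mem_coe, Subgroup.coe_mul_of_right_le_normalizer_left _ _ (hn h.plane.le inf_le_left)] at hv1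
    obtain ⟨w, hw, u, hu, rfl⟩ := Set.mem_mul.1 hv1
    refine mul_mem_sup hw ?_
    have hu1 : u ∈ W' ⊔ (V ⊓ centralizer (E' : Set G)) := h'.plane.sup.symm ▸ hu.1
    rw [← SetLike.mem_coe, Subgroup.coe_mul_of_right_le_normalizer_left _ _ (hn h'.plane.le inf_le_left)] at hu1
    obtain ⟨w', hw', u', hu', rfl⟩ := Set.mem_mul.1 hu1
    refine mul_mem_sup hw' ⟨⟨hu'.1, ?_⟩, hu'.2⟩
    have := (centralizer (E : Set G)).mul_mem ((centralizer (E : Set G)).inv_mem (h1 hw').2) hu.2
    rwa [inv_mul_cancel_left] at this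
  have hfix : W ⊔ (W' ⊔ (V ⊓ centralizer (E : Set G) ⊓ centralizer (E' : Set G))) ≤ centralizer {⁅x, y⁆} := by
    refine sup_le (fun w hw => ?_) (sup_le (fun w hw => ?_) fun u hu => ?_)
    · rw [mem_centralizer_singleton_iff]
      have hyw : Commute y w := mem_centralizer_iff.1 (h2 hw).2 y hy
      have hxw : x⁻¹ * w * x ∈ W := by
        simpa using (mem_normalizer_iff.1 (inv_mem (h.plane.norm hx)) w).1 hw
      have hyw' : Commute y (x⁻¹ * w * x) := mem_centralizer_iff.1 (h2 hxw).2 y hy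
      rw [commutatorElement_def]
      have e1 : y⁻¹ * w = w * y⁻¹ := hyw.inv_left.eq
      calc w * (x * y * x⁻¹ * y⁻¹) = x * ((x⁻¹ * w * x) * y) * x⁻¹ * y⁻¹ := by group
        _ = x * y * x⁻¹ * (w * y⁻¹) := by rw [← hyw'.eq]; group
        _ = _ := by rw [← e1]; group
    · rw [mem_centralizer_singleton_iff]
      have hxw : Commute x w := mem_centralizer_iff.1 (h1 hw).2 x hx
      have hyw : y⁻¹ * w * y ∈ W' := by
        simpa using (mem_normalizer_iff.1 (inv_mem (h'.plane.norm hy)) w).1 hw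
      have hxw'' : Commute x (y⁻¹ * w * y) := mem_centralizer_iff.1 (h1 hyw).2 x hx
      have hxw' : Commute x⁻¹ (y⁻¹ * w * y) := hxw''.inv_left
      rw [commutatorElement_def]
      calc w * (x * y * x⁻¹ * y⁻¹) = x * y * ((y⁻¹ * w * y) * x⁻¹) * y⁻¹ := by
            rw [← mul_assoc w, ← mul_assoc w, ← mul_assoc w, ← hxw.eq]; group
        _ = _ := by rw [← hxw'.eq]; group
    · rw [mem_centralizer_singleton_iff]
      exact (commute_commutator (mem_centralizer_iff.1 hu.1.2 x hx) (mem_centralizer_iff.1 hu.2 y hy)).symm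
  exact mem_centralizer_singleton_iff.1 (hfix (hV hv))

/-- `[K, A] A` is a factor, normalised by `K`. -/
theorem IsFF.exists_factor [hp : Fact p.Prime] (hF : IsFF p V H K) (hA : A ≤ H) (hT : IsTv p V A) :
    IsFactor p V K A ⁅K, A⁆ (⁅K, A⁆ ⊔ A) ⁅V, ⁅K, A⁆ ⊔ A⁆ ∧
      ⁅K, A⁆ ⊔ A ≤ H ∧ K ≤ normalizer ((⁅K, A⁆ : Subgroup G) : Set G) ∧
      K ≤ normalizer ((⁅K, A⁆ ⊔ A : Subgroup G) : Set G) ∧
      ∀ x ∈ K, x ∉ centralizer (A : Set G) →
        A ⊔ A.map (MulAut.conj x).toMonoidHom = ⁅K, A⁆ ⊔ A := by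
  have hKA : A ≤ normalizer (K : Set G) := hA.trans hF.normK
  have hKH : K ≤ H := hF.le
  have hcop : (Nat.card A).Coprime (Nat.card K) := hT.1 ▸ hF.cop.symm
  have hsolv : Group.IsSolvable A ∨ Group.IsSolvable K :=
    Or.inl (Group.isSolvable_of_comm fun a b => hT.elemAb.1.1.1 a b)
  have hAp : IsPGroup p A := PLocal.elemAb_isPGroup hT.elemAb
  set M := ⁅K, A⁆ with hM
  have hMK : M ≤ K := le_normalizer_iff_commutator_le_left.1 hKA
  obtain ⟨a, haA, hAgen, hao⟩ := hT.exists_gen
  have hconjle : ∀ {x : G}, x ∈ K → A.map (MulAut.conj x).toMonoidHom ≤ K ⊔ A := by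
    rintro x hx _ ⟨b, hb, rfl⟩
    exact (K ⊔ A).mul_mem ((K ⊔ A).mul_mem (le_sup_left (b := A) hx) (le_sup_right (a := K) hb))
      ((K ⊔ A).inv_mem (le_sup_left (b := A) hx))
  have hconjne : ∀ {x : G}, x ∈ K → x ∉ centralizer (A : Set G) →
      A.map (MulAut.conj x).toMonoidHom ≠ A := fun hx hxc h =>
    hxc (Coprime.mem_centralizer_of_normalizer hKA hcop hx (PLocal.mem_normalizer_iff_map_eq.2 h))
  have hpair : ∀ {x : G}, x ∈ K → x ∉ centralizer (A : Set G) →
      IsFactor p V K A ((A ⊔ A.map (MulAut.conj x).toMonoidHom) ⊓ K)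
        (A ⊔ A.map (MulAut.conj x).toMonoidHom) ⁅V, A ⊔ A.map (MulAut.conj x).toMonoidHom⁆ := fun hx hxc =>
    hF.pair_factor hA ((hconjle hx).trans (sup_le hKH hA)) hT (hT.conj (hF.norm (hKH hx)))
      (hconjle hx) (hconjne hx hxc)
  have hcomm_mem : ∀ {x : G}, ⁅x, a⁆ ∈ A ⊔ A.map (MulAut.conj x).toMonoidHom := fun {x} => by
    rw [commutatorElement_def]
    exact mul_mem (le_sup_right (a := A) ⟨a, haA, rfl⟩)
      (le_sup_left (b := A.map (MulAut.conj x).toMonoidHom) (A.inv_mem haA))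
  obtain ⟨x0, hx0, hx0c⟩ := Set.not_subset.1 (hF.not_le_centralizer hA hT.best hT.ne_bot)
  set A0 := A.map (MulAut.conj x0).toMonoidHom with hA0
  set E := A ⊔ A0 with hE
  set R := E ⊓ K with hR
  set W := ⁅V, E⁆
  have h0 : IsFactor p V K A R E W := hpair hx0 hx0c
  have hsmall := h0.small
  have := Fact.mk (qOf_prime p)
  -- Sylow subgroups for the other primes centralise `A`
  have hother : ∀ (r : ℕ) (S : Subgroup G), r.Prime → S ≤ K → IsPGroup r S →
      A ≤ normalizer (S : Set G) → r ≠ qOf p → S ≤ centralizer (A : Set G) := by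
    intro r S hr hSK hSr hSA hrq x hxS
    by_contra hxc
    have hf := hpair (hSK hxS) hxc
    set Rx := (A ⊔ A.map (MulAut.conj x).toMonoidHom) ⊓ K
    have hy : ⁅x, a⁆ ∈ Rx ⊓ S := by
      have h1 : ⁅x, a⁆ ∈ S :=
        (le_normalizer_iff_commutator_le_left.1 hSA) (commutator_mem_commutator hxS haA)
      exact ⟨⟨hcomm_mem, hSK h1⟩, h1⟩
    have := Fact.mk hr
    rw [Coprime.inf_eq_bot (by
      obtain ⟨m, hm⟩ := IsPGroup.iff_card.1 hSr
      obtain ⟨n, hn⟩ := IsPGroup.iff_card.1 hf.isPGroup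
      rw [hm, hn]
      exact Nat.coprime_pow_primes _ _ (qOf_prime p) hr hrq.symm), mem_bot] at hy
    refine hxc ?_
    rw [← hAgen, centralizer_zpowers, mem_centralizer_singleton_iff]
    exact commutatorElement_eq_one_iff_mul_comm.1 hy
  obtain ⟨S, hSA⟩ := Coprime.exists_invariant_sylow hKA hcop hsolv (qOf p)
  set Q := (S : Subgroup K).map K.subtype with hQ
  have hQK : Q ≤ K := map_subtype_le _
  have hQp : IsPGroup (qOf p) Q := S.2.map _
  have hcover : ∀ k ∈ K, ∃ x ∈ Q, ∃ c ∈ K ⊓ centralizer (A : Set G), x * c = k := by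
    set C := K ⊓ centralizer (A : Set G) with hC
    have hsub : ((Q : Set G) * (C : Set G)) ⊆ (K : Set G) := by
      rintro _ ⟨x, hx, c, hc, rfl⟩
      exact K.mul_mem (hQK hx) hc.1
    have hge : Nat.card K ≤ Nat.card ((Q : Set G) * (C : Set G) : Set G) := by
      have hd : Nat.card K ∣ Nat.card ((Q : Set G) * (C : Set G) : Set G) := by
        rw [Nat.dvd_iff_prime_pow_dvd_dvd]
        intro r n hr hn
        have := Fact.mk hr
        have hprod := Coprime.card_mul_inf Q C
        by_cases hrq : r = qOf p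
        · subst hrq
          refine (pow_dvd_pow (qOf p) ((hr.pow_dvd_iff_le_factorization Nat.card_pos.ne').1 hn)).trans ?_
          have hQc : Nat.card Q = qOf p ^ (Nat.card K).factorization (qOf p) := by
            rw [card_map_of_injective K.subtype_injective, S.card_eq_multiplicity]
          rw [← hQc]
          obtain ⟨t, ht⟩ := card_dvd_of_le (inf_le_right : Q ⊓ C ≤ C)
          refine ⟨t, Nat.eq_of_mul_eq_mul_right (Nat.card_pos (α := (Q ⊓ C : Subgroup G))) ?_⟩
          rw [hprod, ht]; ring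
        · obtain ⟨T, hTA⟩ := Coprime.exists_invariant_sylow hKA hcop hsolv r
          have hTC : (T : Subgroup K).map K.subtype ≤ C := le_inf (map_subtype_le _)
            (hother r _ hr (map_subtype_le _) (T.2.map _) hTA hrq)
          have hdC : r ^ n ∣ Nat.card C := by
            refine (pow_dvd_pow r ((hr.pow_dvd_iff_le_factorization Nat.card_pos.ne').1 hn)).trans ?_
            rw [← T.card_eq_multiplicity, ← card_map_of_injective (K := (T : Subgroup K)) K.subtype_injective]
            exact card_dvd_of_le hTC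
          obtain ⟨m, hm⟩ := IsPGroup.iff_card.1 (hQp.to_le (inf_le_left : Q ⊓ C ≤ Q))
          have hco : (r ^ n).Coprime (Nat.card ↥(Q ⊓ C)) := by
            rw [hm]; exact Nat.coprime_pow_primes _ _ hr (qOf_prime p) hrq
          exact hco.dvd_of_dvd_mul_right (hprod ▸ hdC.mul_left _)
      refine Nat.le_of_dvd ?_ hd
      rw [Nat.card_pos_iff]
      exact ⟨⟨⟨_, Set.mul_mem_mul Q.one_mem C.one_mem⟩⟩, inferInstance⟩
    intro k hk
    have := Set.eq_of_subset_of_ncard_le hsub (by
      rw [← Nat.card_coe_set_eq, ← Nat.card_coe_set_eq]; exact hge) (Set.toFinite _)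
    rw [← SetLike.mem_coe, ← this] at hk
    exact Set.mem_mul.1 hk
  have hMQ : M ≤ Q := by
    rw [hM, Subgroup.commutator_le]
    intro k hk b hb
    obtain ⟨x, hx, c, hc, rfl⟩ := hcover k hk
    have h1 : c * b * c⁻¹ = b := by
      rw [← mem_centralizer_iff.1 hc.2 b hb, mul_inv_cancel_right]
    have e : ⁅x * c, b⁆ = ⁅x, b⁆ := by
      rw [commutatorElement_def, commutatorElement_def]
      calc x * c * b * (x * c)⁻¹ * b⁻¹ = x * (c * b * c⁻¹) * x⁻¹ * b⁻¹ := by group
        _ = _ := by rw [h1]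
    rw [e]
    exact (le_normalizer_iff_commutator_le_left.1 hSA) (commutator_mem_commutator hx hb)
  have hMp : IsPGroup (qOf p) M := hQp.to_le hMQ
  have hEH : E ≤ H := sup_le hA ((hconjle hx0).trans (sup_le hKH hA))
  have hAE : A ≤ E := le_sup_left
  have hMA : A ≤ normalizer (M : Set G) := Subgroup.normalizer_commutator_ge_right K A
  have hA0M : A0 ≤ M ⊔ A := by
    rintro _ ⟨b, hb, rfl⟩
    show x0 * b * x0⁻¹ ∈ M ⊔ A
    have e : x0 * b * x0⁻¹ = ⁅x0, b⁆ * b := by rw [commutatorElement_def]; group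
    rw [e]
    exact mul_mem_sup (commutator_mem_commutator hx0 hb) hb
  have hRM : R ≤ M := by
    rintro r ⟨hrE, hrK⟩
    obtain ⟨m, hm, b, hb, rfl⟩ := (Coprime.mem_sup_iff hMA).1 (sup_le le_sup_right hA0M hrE)
    have hbK : b ∈ K := by
      have := K.mul_mem (K.inv_mem (hMK hm)) hrK
      rwa [inv_mul_cancel_left] at this
    rw [Coprime.eq_one_of_mem_of_mem hcop hb hbK, mul_one]
    exact hm
  -- the key step: a conjugate of `A` normalising the plane and centralising its complement lies in `E`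
  have hkey : ∀ n ∈ K, n ∈ normalizer (R : Set G) → ⁅n, a⁆ ∈ R := by
    intro n hnK hnR
    have hnV : n ∈ normalizer (V : Set G) := hF.norm (hKH hnK)
    have hnW : n ∈ normalizer (W : Set G) := Coprime.mem_normalizer_of_forall fun w hw => by
      have h1 : (⁅V, R⁆).map (MulAut.conj n).toMonoidHom = ⁅V, R⁆ := by
        rw [Subgroup.map_commutator, PLocal.mem_normalizer_iff_map_eq.1 hnV,
          PLocal.mem_normalizer_iff_map_eq.1 hnR]
      rw [h0.comm] at h1
      exact h1 ▸ mem_map_of_mem _ hw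
    have hnU : n ∈ normalizer ((V ⊓ centralizer (E : Set G) : Subgroup G) : Set G) :=
      Coprime.mem_normalizer_of_forall fun u hu => by
        rw [← h0.fix] at hu ⊢
        exact ⟨(mem_normalizer_iff.1 hnV u).1 hu.1,
          (mem_normalizer_iff.1 (PLocal.normalizer_le_normalizer_centralizer _ hnR) u).1 hu.2⟩
    have hg : n * a * n⁻¹ ∈ E := by
      refine hF.mem_of_plane hEH h0.plane (H.mul_mem (H.mul_mem (hKH hnK) (hA haA)) (H.inv_mem (hKH hnK)))
        (mul_mem (mul_mem hnW (h0.plane.norm (hAE haA))) (inv_mem hnW)) ?_ ?_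
      · rw [conj_pow, hT.elemAb.2 a haA, mul_one, mul_inv_cancel]
        exact one_mem _
      · refine mem_centralizer_iff.2 fun u hu => ?_
        have hu' : n⁻¹ * u * n ∈ V ⊓ centralizer (E : Set G) := by
          simpa using (mem_normalizer_iff.1 (inv_mem hnU) u).1 hu
        have h1 : a * (n⁻¹ * u * n) = n⁻¹ * u * n * a := mem_centralizer_iff.1 hu'.2 a (hAE haA)
        calc u * (n * a * n⁻¹) = n * (n⁻¹ * u * n * a) * n⁻¹ := by group
          _ = _ := by rw [← h1]; group
    refine ⟨?_, hMK (commutator_mem_commutator hnK haA)⟩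
    rw [commutatorElement_def]
    exact E.mul_mem hg (E.inv_mem (hAE haA))
  set P := M ⊓ normalizer (R : Set G) with hP
  have hPM : P = M := by
    have : Group.IsNilpotent M := hMp.isNilpotent
    by_contra hne
    have hlt : P.subgroupOf M < ⊤ := lt_top_iff_ne_top.2 fun h =>
      hne (le_antisymm inf_le_left (subgroupOf_eq_top.1 h))
    obtain ⟨n, hnN, hnP⟩ := SetLike.exists_of_lt (Group.normalizerCondition_of_isNilpotent _ hlt)
    refine hnP (mem_subgroupOf.2 ⟨n.2, ?_⟩)
    have hnPG : (n : G) ∈ normalizer (P : Set G) := Coprime.mem_normalizer_of_forall fun z hz => by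
      have hzM : z ∈ M := hz.1
      exact ((mem_normalizer_iff.1 hnN ⟨z, hzM⟩).1 hz : (⟨n * z * (n : G)⁻¹, _⟩ : M) ∈ P.subgroupOf M)
    have hnK : (n : G) ∈ K := hMK n.2
    set c := (MulAut.conj (n : G)).toMonoidHom with hc
    have hci : Function.Injective c := (MulAut.conj (n : G)).injective
    have hKc : K.map c = K := PLocal.mem_normalizer_iff_map_eq.1 (le_normalizer hnK)
    set A1 := A.map c with hA1
    set A1' := A0.map c with hA1'
    have hA0K : A0 ≤ K ⊔ A := hconjle hx0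
    have hsupc : (K ⊔ A).map c = K ⊔ A1 := by rw [Subgroup.map_sup, hKc]
    have hf1 : IsFactor p V K A1 ((A1 ⊔ A1') ⊓ K) (A1 ⊔ A1') ⁅V, A1 ⊔ A1'⁆ :=
      hF.pair_factor ((hconjle hnK).trans (sup_le hKH hA))
        ((Subgroup.map_mono hA0K).trans (hsupc.le.trans (sup_le hKH ((hconjle hnK).trans (sup_le hKH hA)))))
        (hT.conj (hF.norm (hKH hnK))) ((hT.conj (hF.norm (hKH hx0))).conj (hF.norm (hKH hnK)))
        ((Subgroup.map_mono hA0K).trans hsupc.le)
        (fun h => hconjne hx0 hx0c (Subgroup.map_injective hci h))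
    set R1 := (A1 ⊔ A1') ⊓ K with hR1
    set W1 := ⁅V, A1 ⊔ A1'⁆
    have hR1e : R1 = R.map c := by
      rw [hR1, hR, Subgroup.map_inf _ _ _ hci, hKc, hA1, hA1', ← Subgroup.map_sup]
    have hRP : R ≤ P := le_inf hRM le_normalizer
    have hR1P : R1 ≤ P := by
      rw [hR1e, ← PLocal.mem_normalizer_iff_map_eq.1 hnPG]
      exact Subgroup.map_mono hRP
    have hR1R : R1 ≤ normalizer (R : Set G) := hR1P.trans inf_le_right
    have hRR1 : R ≤ normalizer (R1 : Set G) := by
      intro r hr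
      have hr' : (n : G)⁻¹ * r * n ∈ P := by
        simpa using (mem_normalizer_iff.1 (inv_mem hnPG) r).1 (hRP hr)
      rw [hR1e]
      refine Coprime.mem_normalizer_of_forall ?_
      rintro _ ⟨s, hs, rfl⟩
      refine ⟨_, (mem_normalizer_iff.1 hr'.2 s).1 hs, ?_⟩
      show (n : G) * ((n : G)⁻¹ * r * n * s * ((n : G)⁻¹ * r * n)⁻¹) * (n : G)⁻¹ = r * (n * s * (n : G)⁻¹) * r⁻¹
      group
    have hE1H : A1 ⊔ A1' ≤ H := by
      rw [hA1, hA1', ← Subgroup.map_sup]
      rintro _ ⟨e, he, rfl⟩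
      exact H.mul_mem (H.mul_mem (hKH hnK) (hEH he)) (H.inv_mem (hKH hnK))
    rcases h0.dichotomy hF hf1 hEH hE1H hR1R with hW1 | hW1
    · have hU1 := h0.fix_eq hF hf1 hE1H hR1R hW1
      have hle : ∀ {T : Subgroup G}, T ≤ A1 ⊔ A1' → IsTv p V T → T ≤ E := fun hT1 hTT t ht =>
        hF.mem_of_plane hEH h0.plane (hE1H (hT1 ht)) (hW1 ▸ hf1.plane.norm (hT1 ht))
          (by rw [hTT.elemAb.2 t ht]; exact one_mem _) (by
            rw [← hU1]
            exact le_centralizer_iff.1 (inf_le_right : V ⊓ centralizer ((A1 ⊔ A1' : Subgroup G) : Set G) ≤ _)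
              (hT1 ht))
      have h1 : R1 ≤ R := inf_le_inf_right K (sup_le (hle le_sup_left (hT.conj (hF.norm (hKH hnK))))
        (hle le_sup_right ((hT.conj (hF.norm (hKH hx0))).conj (hF.norm (hKH hnK)))))
      exact PLocal.mem_normalizer_iff_map_eq.2 (eq_of_le_of_card_ge (hR1e ▸ h1)
        (by rw [card_map_of_injective hci]))
    · exfalso
      have hW2 : W ≤ V ⊓ centralizer ((A1 ⊔ A1' : Subgroup G) : Set G) := by
        refine (hf1.dichotomy hF h0 hE1H hEH hRR1).resolve_left fun h => ?_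
        have : W = ⊥ := le_bot_iff.1 (h0.plane.inf ▸ le_inf le_rfl ((h ▸ hW1).trans inf_le_right))
        have h2 := h0.plane.card
        rw [this, card_bot] at h2
        exact absurd h2.symm (Nat.one_lt_pow two_ne_zero hp.out.one_lt).ne'
      have hcA := h0.commute hF hf1 hEH hE1H hW1 hW2
      have hA1A : A1 ≤ centralizer (A : Set G) :=
        (le_sup_left.trans hcA).trans (centralizer_le hAE)
      have h1 : Nat.card ↥(A ⊔ A1) ∣ p := by
        have hpg : IsPGroup p ↥(A ⊔ A1) := PLocal.elemAb_isPGroup (PLocal.elemAb_sup hT.elemAb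
          (hT.conj (hF.norm (hKH hnK))).elemAb (le_centralizer_iff.1 hA1A))
        obtain ⟨m, hm⟩ := IsPGroup.iff_card.1 hpg
        have hd := card_dvd_of_le (sup_le le_sup_right (hconjle hnK) : A ⊔ A1 ≤ K ⊔ A)
        rw [Coprime.card_sup_of_coprime hKA hcop.symm, hT.1, hm] at hd
        rw [hm]
        exact (hF.cop.symm.pow_left m).dvd_of_dvd_mul_left hd
      have hAA1 : A1 = A := by
        have h2 : A = A ⊔ A1 := eq_of_le_of_card_ge le_sup_left
          (hT.1 ▸ Nat.le_of_dvd hp.out.pos h1)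
        exact (hT.eq_bot_or_self (h2.symm ▸ (le_sup_right : A1 ≤ A ⊔ A1))).resolve_left
          (hT.conj (hF.norm (hKH hnK))).ne_bot
      refine hT.ne_bot (le_bot_iff.1 (h0.plane.faith ▸ le_inf hAE ?_))
      rw [le_centralizer_iff]
      have hA1le : A ≤ A1 ⊔ A1' := hAA1 ▸ le_sup_left
      exact hW2.trans (inf_le_right.trans (centralizer_le hA1le))
  have hMR : M = R := by
    refine le_antisymm ?_ hRM
    have hMM : ⁅M, A⁆ = M := Coprime.commutator_commutator_eq hKA hcop hsolv
    rw [← hMM, ← hAgen, zpowers_eq_closure]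
    refine commutator_closure_le (fun s hs => ?_) fun m hm s hs => ?_
    · rw [Set.mem_singleton_iff.1 hs]
      refine Coprime.mem_normalizer_of_forall fun r hr =>
        ⟨E.mul_mem (E.mul_mem (hAE haA) hr.1) (E.inv_mem (hAE haA)), (mem_normalizer_iff.1 (hKA haA) r).1 hr.2⟩
    · rw [Set.mem_singleton_iff.1 hs]
      exact hkey m (hMK hm) (hPM.ge hm).2
  have hEM : E = M ⊔ A := hMR ▸ h0.eq_sup
  have hKM : K ≤ normalizer (M : Set G) := Subgroup.normalizer_commutator_ge_left K A
  rw [← hEM]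
  refine ⟨hMR ▸ h0, hEH, hKM, fun k hk => ?_, fun x hx hxc => ?_⟩
  · refine Coprime.mem_normalizer_of_forall fun e he => ?_
    rw [hEM] at he ⊢
    obtain ⟨m, hm, b, hb, rfl⟩ := (Coprime.mem_sup_iff hMA).1 he
    have e1 : k * (m * b) * k⁻¹ = (k * m * k⁻¹) * ⁅k, b⁆ * b := by rw [commutatorElement_def]; group
    rw [e1]
    exact mul_mem_sup (M.mul_mem ((mem_normalizer_iff.1 (hKM hk) m).1 hm) (commutator_mem_commutator hk hb)) hb
  · refine eq_of_le_of_card_ge (hEM ▸ sup_le le_sup_right ?_) ?_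
    · rintro _ ⟨b, hb, rfl⟩
      show x * b * x⁻¹ ∈ M ⊔ A
      have e : x * b * x⁻¹ = ⁅x, b⁆ * b := by rw [commutatorElement_def]; group
      rw [e]
      exact mul_mem_sup (commutator_mem_commutator hx hb) hb
    · obtain ⟨e⟩ := (hpair hx hxc).plane.iso
      obtain ⟨e'⟩ := h0.plane.iso
      rw [Nat.card_congr e.toEquiv, Nat.card_congr e'.toEquiv]

end Cfsg.Agent.FFPair
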