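import Cfsg.Agent.Lib.FFPair.Pair
import Cfsg.Agent.Lib.Cores.Subnormal
import Cfsg.Agent.Lib.Solvable.Basic

/-!
# Subnormal subgroups acting irreducibly on their commutator modules

* `commute_of_irreducible`: two such subgroups with incomparable commutators commute
-/

open Subgroup
open scoped commutatorElement Pointwise

namespace Cfsg.Agent.FFPair

variable {G : Type*} [Group G] {p : ℕ}

/-- The hypotheses on one of the subgroups. -/
structure IrrSub (V E₀ E₁ : Subgroup G) : Prop where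
  le : E₁ ≤ E₀
  sn : (E₁.subgroupOf E₀).IsSubnormal
  irr : ∀ U : Subgroup G, U ≤ ⁅V, E₁⁆ → E₁ ≤ normalizer (U : Set G) → U = ⊥ ∨ U = ⁅V, E₁⁆
  two : 2 < Nat.card E₁

/-- The ambient hypotheses. -/
structure FaithfulBase (p : ℕ) (V E₀ : Subgroup G) : Prop where
  elem : Cfsg.IsElementaryAbelian p V
  norm : E₀ ≤ normalizer (V : Set G)
  faith : E₀ ⊓ centralizer (V : Set G) = ⊥
  core : Cfsg.pCore p E₀ = ⊥

variable {V E₀ E₁ E₂ T L : Subgroup G}

theorem mem_normalizer_of_comm {W : Subgroup G} [Finite G] {x : G}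
    (h : ∀ w ∈ W, ⁅x, w⁆ ∈ W) : x ∈ normalizer (W : Set G) :=
  Coprime.mem_normalizer_of_forall fun w hw => by
    have := W.mul_mem (h w hw) hw
    rwa [commutatorElement_def, inv_mul_cancel_right] at this

theorem commutator_module_le (hV : E₀ ≤ normalizer (V : Set G)) (hX : T ≤ E₀) : ⁅V, T⁆ ≤ V :=
  le_normalizer_iff_commutator_le_left.1 (hX.trans hV)

variable [Finite G]

/-- A subnormal subgroup stabilising `V ≥ L ≥ 1` is trivial. -/
theorem FaithfulBase.eq_bot_of_chain [hp : Fact p.Prime] (hB : FaithfulBase p V E₀) (hT : T ≤ E₀)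
    (hsn : (T.subgroupOf E₀).IsSubnormal) (hTL : ⁅V, T⁆ ≤ L) (hTc : T ≤ centralizer (L : Set G)) :
    T = ⊥ := by
  have hTp : IsPGroup p T := fun t => ⟨1, Subtype.ext (by
    show (t : G) ^ p ^ 1 = 1
    refine mem_bot.1 (hB.faith ▸ ⟨pow_mem (hT t.2) _, mem_centralizer_iff.2 fun v hv => ?_⟩)
    set c := ⁅(t : G), v⁆ with hc
    have hcV : c ∈ V := by
      rw [hc, commutatorElement_def]
      exact V.mul_mem ((mem_normalizer_iff.1 (hB.norm (hT t.2)) v).1 hv) (V.inv_mem hv)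
    have hcL : c ∈ L := by
      rw [hc, ← commutatorElement_inv]
      exact L.inv_mem (hTL (commutator_mem_commutator hv t.2))
    have htc : Commute (t : G) c := (mem_centralizer_iff.1 (hTc t.2) c hcL).symm
    have hrec : ∀ n : ℕ, (t : G) ^ n * v * ((t : G) ^ n)⁻¹ = c ^ n * v := by
      intro n
      induction n with
      | zero => simp
      | succ n ih =>
        have h2 : (t : G) * v = c * v * t := by rw [hc, commutatorElement_def]; group
        calc (t : G) ^ (n + 1) * v * ((t : G) ^ (n + 1))⁻¹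
            = t * ((t : G) ^ n * v * ((t : G) ^ n)⁻¹) * (t : G)⁻¹ := by rw [pow_succ']; group
          _ = c ^ n * (t * v) * (t : G)⁻¹ := by rw [ih, ← mul_assoc (t : G), (htc.pow_right n).eq]; group
          _ = c ^ (n + 1) * v := by rw [h2, pow_succ]; group
    have h3 := hrec (p ^ 1)
    rw [pow_one, hB.elem.2 c hcV, one_mul] at h3
    rw [pow_one]
    exact (mul_inv_eq_iff_eq_mul.1 h3).symm)⟩
  have := Cores.le_pCore_of_isSubnormal hsn (hTp.comap_subtype (K := E₀))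
  rw [hB.core, le_bot_iff] at this
  rw [← map_subgroupOf_eq_of_le hT, this, Subgroup.map_bot]

theorem sn_sup {A B : Subgroup G} (hA : A ≤ E₀) (hB : B ≤ E₀) (hAs : (A.subgroupOf E₀).IsSubnormal)
    (hBs : (B.subgroupOf E₀).IsSubnormal) : ((A ⊔ B).subgroupOf E₀).IsSubnormal := by
  rw [subgroupOf_sup hA hB]
  exact Cores.isSubnormal_sup hAs hBs

theorem sn_of_normal {A B : Subgroup G} (hA : A ≤ B) (hB : B ≤ E₀) (hn : B ≤ normalizer (A : Set G))
    (hBs : (B.subgroupOf E₀).IsSubnormal) : (A.subgroupOf E₀).IsSubnormal := by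
  refine Subgroup.IsSubnormal.trans (K := B.subgroupOf E₀) (fun x hx => hA hx) ?_ hBs
  refine Subgroup.Normal.isSubnormal ⟨fun x hx g => ?_⟩
  exact (mem_normalizer_iff.1 (hn g.2) _).1 hx

theorem IrrSub.fixed_eq_bot [hp : Fact p.Prime] (hB : FaithfulBase p V E₀) (h : IrrSub V E₀ E₁) :
    ⁅V, E₁⁆ ⊓ centralizer (E₁ : Set G) = ⊥ := by
  have hn : E₁ ≤ normalizer ((⁅V, E₁⁆ ⊓ centralizer (E₁ : Set G) : Subgroup G) : Set G) := by
    refine le_trans ?_ (centralizer_le_normalizer _)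
    exact le_centralizer_iff.1 inf_le_right
  refine (h.irr _ inf_le_left hn).resolve_right fun he => ?_
  have := hB.eq_bot_of_chain h.le h.sn (L := ⁅V, E₁⁆) le_rfl
    (le_centralizer_iff.1 (inf_eq_left.1 he))
  have h2 := h.two
  rw [this, card_bot] at h2
  omega

theorem IrrSub.ne_bot [hp : Fact p.Prime] (hB : FaithfulBase p V E₀) (h : IrrSub V E₀ E₁) :
    ⁅V, E₁⁆ ≠ ⊥ := by
  intro he
  have hle : E₁ ≤ E₀ ⊓ centralizer (V : Set G) :=
    le_inf h.le (le_centralizer_iff.1 (commutator_eq_bot_iff_le_centralizer.1 he))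
  rw [hB.faith, le_bot_iff] at hle
  have h2 := h.two
  rw [hle, card_bot] at h2
  omega

/-- One of them normalises the commutator module of the other. -/
theorem commute_of_normalizes [hp : Fact p.Prime] (hB : FaithfulBase p V E₀) (h1 : IrrSub V E₀ E₁)
    (h2 : IrrSub V E₀ E₂) (h21 : ¬ ⁅V, E₂⁆ ≤ ⁅V, E₁⁆)
    (hn : E₂ ≤ normalizer ((⁅V, E₁⁆ : Subgroup G) : Set G)) :
    ⁅E₁, E₂⁆ = ⊥ ∧ ⁅V, E₁⁆ ⊓ ⁅V, E₂⁆ = ⊥ ∧ E₂ ≤ centralizer ((⁅V, E₁⁆ : Subgroup G) : Set G) := by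
  set W := ⁅V, E₁⁆ with hW
  have hWV : W ≤ V := commutator_module_le hB.norm h1.le
  have hn2 : E₂ ≤ normalizer ((⁅V, E₂⁆ : Subgroup G) : Set G) := normalizer_commutator_ge_right V E₂
  have hn1 : E₁ ≤ normalizer (W : Set G) := normalizer_commutator_ge_right V E₁
  have hinf : W ⊓ ⁅V, E₂⁆ = ⊥ :=
    (h2.irr _ inf_le_right fun x hx => Coprime.mem_normalizer_of_forall fun w hw =>
      ⟨(mem_normalizer_iff.1 (hn hx) w).1 hw.1, (mem_normalizer_iff.1 (hn2 hx) w).1 hw.2⟩).resolve_right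
      fun he => h21 (he ▸ inf_le_left)
  have hC : E₂ ≤ centralizer (W : Set G) := by
    rw [le_centralizer_iff]
    refine commutator_eq_bot_iff_le_centralizer.1 (le_bot_iff.1 (hinf ▸ le_inf ?_ ?_))
    · exact le_normalizer_iff_commutator_le_left.1 hn
    · exact commutator_mono hWV le_rfl
  refine ⟨?_, hinf, hC⟩
  set E := E₁ ⊔ E₂
  set D := ⁅E₁, E₂⁆
  set F := Subgroup.closure {x : G | ∃ g ∈ E, ∃ a ∈ E₁, x = g * a * g⁻¹}
  have hEE : E ≤ E₀ := sup_le h1.le h2.le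
  have hDE : D ≤ E := commutator_le.2 fun a ha b hb =>
    E.mul_mem (E.mul_mem (E.mul_mem (mem_sup_left ha) (mem_sup_right hb))
      (E.inv_mem (mem_sup_left ha))) (E.inv_mem (mem_sup_right hb))
  have hDn : E ≤ normalizer (D : Set G) :=
    sup_le (normalizer_commutator_ge_left E₁ E₂) (normalizer_commutator_ge_right E₁ E₂)
  have hDF : D ≤ F := commutator_le.2 fun a ha b hb => by
    have e : ⁅a, b⁆ = a * (b * a⁻¹ * b⁻¹) := by rw [commutatorElement_def]; group
    rw [e]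
    exact F.mul_mem (subset_closure ⟨1, E.one_mem, a, ha, by group⟩)
      (subset_closure ⟨b, mem_sup_right hb, a⁻¹, E₁.inv_mem ha, rfl⟩)
  have hEW : E ≤ normalizer (W : Set G) := sup_le hn1 hn
  have hFW : ⁅V, F⁆ ≤ W := by
    refine commutator_closure_le ?_ ?_
    · rintro _ ⟨g, hg, a, ha, rfl⟩
      exact mul_mem (mul_mem (hEW hg) (hn1 ha)) (inv_mem (hEW hg))
    · rintro v hv _ ⟨g, hg, a, ha, rfl⟩
      have hv' : g⁻¹ * v * g ∈ V := by
        simpa using (mem_normalizer_iff.1 (inv_mem (hB.norm (hEE hg))) v).1 hv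
      have h3 : ⁅g⁻¹ * v * g, a⁆ ∈ W := commutator_mem_commutator hv' ha
      have e : ⁅v, g * a * g⁻¹⁆ = g * ⁅g⁻¹ * v * g, a⁆ * g⁻¹ := by simp only [commutatorElement_def]; group
      rw [e]
      exact (mem_normalizer_iff.1 (hEW hg) _).1 h3
  refine hB.eq_bot_of_chain (hDE.trans hEE) (sn_of_normal hDE hEE hDn (sn_sup h1.le h2.le h1.sn h2.sn))
    ((commutator_mono le_rfl hDF).trans hFW) ?_
  refine commutator_le.2 fun a ha b hb => mem_centralizer_iff.2 fun w hw => ?_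
  have hb' : ∀ w ∈ W, Commute b w := fun w hw => (mem_centralizer_iff.1 (hC hb) w hw).symm
  have hw' : a⁻¹ * w * a ∈ W := by
    simpa using (mem_normalizer_iff.1 (inv_mem (hn1 ha)) w).1 hw
  have e1 : b⁻¹ * w = w * b⁻¹ := (hb' w hw).inv_left.eq
  have e2 := (hb' _ hw').eq
  rw [commutatorElement_def]
  calc w * (a * b * a⁻¹ * b⁻¹) = a * ((a⁻¹ * w * a) * b) * a⁻¹ * b⁻¹ := by group
    _ = a * b * a⁻¹ * (w * b⁻¹) := by rw [← e2]; group
    _ = _ := by rw [← e1]; group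

theorem IrrSub.conj (hB : FaithfulBase p V E₀) (h : IrrSub V E₀ E₁) {g : G} (hg : g ∈ E₀) :
    IrrSub V E₀ (MulAut.conj g • E₁) ∧ ⁅V, MulAut.conj g • E₁⁆ = MulAut.conj g • ⁅V, E₁⁆ := by
  have hW : ⁅V, MulAut.conj g • E₁⁆ = MulAut.conj g • ⁅V, E₁⁆ := by
    conv_lhs => rw [← Solvable.mem_normalizer_iff_conj.1 (hB.norm hg)]
    exact (Subgroup.map_commutator _ _ _).symm
  refine ⟨⟨?_, ?_, fun U hU hn => ?_, (Coprime.card_conj g E₁).symm ▸ h.two⟩, hW⟩
  · intro x hx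
    have h1 := h.le (Coprime.mem_conj.1 hx)
    have := E₀.mul_mem (E₀.mul_mem hg h1) (E₀.inv_mem hg)
    simpa [mul_assoc] using this
  · rw [show MulAut.conj g • E₁ = MulAut.conj ((⟨g, hg⟩ : E₀) : G) • E₁ from rfl, Cores.subgroupOf_conj_smul]
    exact Cores.isSubnormal_conj_smul h.sn _
  · rw [hW] at hU ⊢
    have hU' : MulAut.conj g⁻¹ • U ≤ ⁅V, E₁⁆ := by
      have := Solvable.conj_mono g⁻¹ hU
      rwa [Solvable.conj_inv_smul] at this
    have hn' : E₁ ≤ normalizer ((MulAut.conj g⁻¹ • U : Subgroup G) : Set G) := fun x hx =>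
      Coprime.mem_normalizer_of_forall fun u hu => by
        rw [Coprime.mem_conj, inv_inv] at hu ⊢
        have hxg := hn (Coprime.conj_mem_conj.2 hx : g * x * g⁻¹ ∈ MulAut.conj g • E₁)
        have := (mem_normalizer_iff.1 hxg _).1 hu
        simpa [mul_assoc] using this
    rcases h.irr _ hU' hn' with h' | h'
    · left
      have := congrArg (MulAut.conj g • ·) h'
      simpa [Solvable.conj_conj, Solvable.conj_one_smul] using this
    · right
      have := congrArg (MulAut.conj g • ·) h'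
      simpa [Solvable.conj_conj, Solvable.conj_one_smul] using this

theorem smul_lt_of_sn {E F : Subgroup G} (hFE : F ≤ E) (hE : E ≤ E₀) (hsn : (F.subgroupOf E₀).IsSubnormal)
    (hne : F ≠ E) : ∀ g ∈ E, Nat.card ↥(F ⊔ MulAut.conj g • F) < Nat.card E := by
  intro g hg
  have hs : (F.subgroupOf E).IsSubnormal := by
    have := hsn.comap (Subgroup.inclusion hE)
    exact this
  obtain ⟨N, hN, hFN, hNlt⟩ := hs.exists_normal_and_le_and_lt_top_of_ne
    (fun he => hne (le_antisymm hFE (subgroupOf_eq_top.1 he)))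
  have hle : F ⊔ MulAut.conj g • F ≤ N.map E.subtype := by
    refine sup_le (fun x hx => ⟨⟨x, hFE hx⟩, hFN hx, rfl⟩) fun x hx => ?_
    have hx' : g⁻¹ * x * g ∈ F := Coprime.mem_conj.1 hx
    refine ⟨⟨g, hg⟩ * ⟨g⁻¹ * x * g, hFE hx'⟩ * ⟨g, hg⟩⁻¹, hN.conj_mem _ (hFN hx') _, ?_⟩
    simp [mul_assoc]
  refine lt_of_le_of_lt (PLocal.card_le_of_le hle) ?_
  rw [card_map_of_injective E.subtype_injective]
  by_contra! hge
  exact hNlt.ne (eq_top_of_card_eq N (le_antisymm (Nat.le_of_dvd Nat.card_pos N.card_subgroup_dvd_card) hge))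

/-- Two subgroups with incomparable commutator modules commute. -/
theorem commute_of_irreducible [hp : Fact p.Prime] (hB : FaithfulBase p V E₀) (h1 : IrrSub V E₀ E₁)
    (h2 : IrrSub V E₀ E₂) (h12 : ¬ ⁅V, E₁⁆ ≤ ⁅V, E₂⁆) (h21 : ¬ ⁅V, E₂⁆ ≤ ⁅V, E₁⁆) :
    ⁅E₁, E₂⁆ = ⊥ ∧ ⁅V, E₁⁆ ⊓ ⁅V, E₂⁆ = ⊥ ∧ E₂ ≤ centralizer ((⁅V, E₁⁆ : Subgroup G) : Set G) ∧
      E₁ ≤ centralizer ((⁅V, E₂⁆ : Subgroup G) : Set G) := by
  obtain ⟨n, hn⟩ : ∃ n, n = Nat.card ↥(E₁ ⊔ E₂) := ⟨_, rfl⟩
  induction n using Nat.strong_induction_on generalizing E₁ E₂ with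
  | _ n ih =>
  subst hn
  set W := ⁅V, E₁⁆ with hWdef
  set W₂ := ⁅V, E₂⁆ with hW₂def
  have hWV : W ≤ V := commutator_module_le hB.norm h1.le
  have hW₂V : W₂ ≤ V := commutator_module_le hB.norm h2.le
  have hfin : ⁅E₁, E₂⁆ = ⊥ → W ⊓ W₂ = ⊥ → ⁅E₁, E₂⁆ = ⊥ ∧ W ⊓ W₂ = ⊥ ∧
      E₂ ≤ centralizer (W : Set G) ∧ E₁ ≤ centralizer (W₂ : Set G) := by
    intro hc hi
    have key : ∀ {A B : Subgroup G}, ⁅A, B⁆ = ⊥ → ⁅V, A⁆ ≤ V → A ≤ E₀ → B ≤ E₀ → ⁅V, A⁆ ⊓ ⁅V, B⁆ = ⊥ →
        B ≤ centralizer ((⁅V, A⁆ : Subgroup G) : Set G) := by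
      intro A B hAB hAV hA hB' hi
      have hcc : B ≤ centralizer (A : Set G) :=
        le_centralizer_iff.1 (commutator_eq_bot_iff_le_centralizer.1 hAB)
      have hn : B ≤ normalizer ((⁅V, A⁆ : Subgroup G) : Set G) := by
        intro b hb
        refine PLocal.mem_normalizer_iff_map_eq.2 ?_
        rw [Subgroup.map_commutator, PLocal.mem_normalizer_iff_map_eq.1 (hB.norm (hB' hb)),
          PLocal.mem_normalizer_iff_map_eq.1 (centralizer_le_normalizer _ (hcc hb))]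
      rw [le_centralizer_iff]
      exact commutator_eq_bot_iff_le_centralizer.1 (le_bot_iff.1 (hi ▸ le_inf
        (le_normalizer_iff_commutator_le_left.1 hn) (commutator_mono hAV le_rfl)))
    exact ⟨hc, hi, key hc hWV h1.le h2.le hi, key (by rw [commutator_comm]; exact hc) hW₂V h2.le h1.le
      (by rw [inf_comm]; exact hi)⟩
  by_cases hcase1 : E₂ ≤ normalizer (W : Set G)
  · obtain ⟨hc, hi, -⟩ := commute_of_normalizes hB h1 h2 h21 hcase1
    exact hfin hc hi
  by_cases hcase2 : E₁ ≤ normalizer (W₂ : Set G)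
  · obtain ⟨hc, hi, -⟩ := commute_of_normalizes hB h2 h1 h12 hcase2
    exact hfin (by rw [commutator_comm]; exact hc) (by rw [inf_comm]; exact hi)
  exfalso
  obtain ⟨e, he, heN⟩ := Set.not_subset.1 hcase1
  set E := E₁ ⊔ E₂ with hE
  have hEE : E ≤ E₀ := sup_le h1.le h2.le
  have hne1 : E₁ ≠ E := fun h => h21 (commutator_mono le_rfl (h.symm ▸ le_sup_right))
  have hne2 : E₂ ≠ E := fun h => h12 (commutator_mono le_rfl (h.symm ▸ le_sup_left))
  -- two conjugates
  have pairs : ∀ {A : Subgroup G}, IrrSub V E₀ A → A ≤ E → A ≠ E → ∀ g ∈ E,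
      MulAut.conj g • ⁅V, A⁆ ≠ ⁅V, A⁆ →
      MulAut.conj g • ⁅V, A⁆ ⊓ ⁅V, A⁆ = ⊥ ∧
        A ≤ centralizer ((MulAut.conj g • ⁅V, A⁆ : Subgroup G) : Set G) ∧
        MulAut.conj g • A ≤ centralizer ((⁅V, A⁆ : Subgroup G) : Set G) := by
    intro A hA hAE hAne g hg hgne
    obtain ⟨hAg, hWg⟩ := hA.conj hB (hEE hg)
    have hcW : Nat.card ↥(MulAut.conj g • ⁅V, A⁆) = Nat.card ↥⁅V, A⁆ := Coprime.card_conj g _
    obtain ⟨-, hi, hc, hc'⟩ := ih _ (smul_lt_of_sn hAE hEE hA.sn hAne g hg) hA hAg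
      (fun h => hgne (by rw [hWg] at h; exact (eq_of_le_of_card_ge h hcW.le).symm))
      (fun h => hgne (by rw [hWg] at h; exact eq_of_le_of_card_ge h hcW.ge)) rfl
    rw [hWg] at hi hc'
    exact ⟨by rw [inf_comm]; exact hi, hc', hc⟩
  set W' := MulAut.conj e • W with hW'
  have hW'ne : W' ≠ W := fun h => heN (Solvable.mem_normalizer_iff_conj.2 h)
  have heE : e ∈ E := mem_sup_right he
  obtain ⟨hW'i, hE1W', -⟩ := pairs h1 le_sup_left hne1 e heE hW'ne
  set W'' := MulAut.conj (e * e) • W with hW''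
  have hW''V : W'' ≤ V := by
    have := Solvable.conj_mono (e * e) hWV
    rwa [Solvable.mem_normalizer_iff_conj.1 (mul_mem (hB.norm (h2.le he)) (hB.norm (h2.le he)))] at this
  have hW'V : W' ≤ V := by
    have := Solvable.conj_mono e hWV
    rwa [Solvable.mem_normalizer_iff_conj.1 (hB.norm (h2.le he))] at this
  -- every element of `E₁` outside `N(W₂)` inverts `W`
  have hinv : ∀ f ∈ E₁, f ∉ normalizer (W₂ : Set G) → ∀ w ∈ W, f * w * f⁻¹ = w⁻¹ := by
    intro f hf hfN w hw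
    obtain ⟨-, hE2W, -⟩ := pairs h2 le_sup_right hne2 f (mem_sup_left hf)
      (fun h => hfN (Solvable.mem_normalizer_iff_conj.2 h))
    have hv : ⁅e, w⁆ ∈ W₂ := by
      rw [hW₂def, Subgroup.commutator_comm]
      exact commutator_mem_commutator he (hWV hw)
    set w' := e * w * e⁻¹ with hw'
    set u := f * w⁻¹ * f⁻¹ with hu
    have hw'W' : w' ∈ W' := Coprime.conj_mem_conj.2 hw
    have huW : u ∈ W := (mem_normalizer_iff.1 (normalizer_commutator_ge_right V E₁ hf) _).1 (W.inv_mem hw)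
    have hfv : f * ⁅e, w⁆ * f⁻¹ = w' * u := by
      have h1' : f * w' * f⁻¹ = w' := by
        rw [← mem_centralizer_iff.1 (hE1W' hf) w' hw'W', mul_inv_cancel_right]
      calc f * ⁅e, w⁆ * f⁻¹ = (f * w' * f⁻¹) * u := by rw [hu, hw', commutatorElement_def]; group
        _ = _ := by rw [h1']
    have hfix : e * (w' * u) * e⁻¹ = w' * u := by
      rw [← hfv, ← mem_centralizer_iff.1 (hE2W he) _ (Coprime.conj_mem_conj.2 hv), mul_inv_cancel_right]
    set u' := e * u * e⁻¹ with hu'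
    have hu'W' : u' ∈ W' := Coprime.conj_mem_conj.2 huW
    have hee : e * w' * e⁻¹ = w' * u * u'⁻¹ := by
      have : e * (w' * u) * e⁻¹ = (e * w' * e⁻¹) * u' := by rw [hu']; group
      rw [this] at hfix
      rw [← hfix, mul_inv_cancel_right]
    have heeW'' : e * w' * e⁻¹ ∈ W'' := by
      have : e * w' * e⁻¹ = (e * e) * w * (e * e)⁻¹ := by rw [hw']; group
      rw [this]; exact Coprime.conj_mem_conj.2 hw
    have hcm : ∀ {a b : G}, a ∈ V → b ∈ V → a * b = b * a := fun ha hb => PLocal.elemAb_comm hB.elem ha hb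
    by_cases hW''W : W'' = W
    · -- compare components
      have hm : (e * w' * e⁻¹) * u⁻¹ = w' * u'⁻¹ := by
        rw [hee, mul_assoc w', hcm (hWV huW) (V.inv_mem (hW'V hu'W'))]; group
      have h0 : w' * u'⁻¹ ∈ W' ⊓ W := ⟨W'.mul_mem hw'W' (W'.inv_mem hu'W'), by
        rw [← hm]; exact W.mul_mem (hW''W ▸ heeW'') (W.inv_mem huW)⟩
      rw [hW'i, mem_bot, mul_inv_eq_one, hw', hu'] at h0
      have h5 : w = f * w⁻¹ * f⁻¹ := mul_left_cancel (mul_right_cancel h0)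
      have h6 := congrArg (·⁻¹) h5
      simp only [mul_inv_rev, inv_inv] at h6
      rw [h6]; group
    · -- `W''` is independent of `W' W`
      obtain ⟨-, -, hE''W⟩ := pairs h1 le_sup_left hne1 (e * e) (mul_mem heE heE) hW''W
      obtain ⟨hAe, hWe⟩ := h1.conj hB (hEE heE)
      have hW''W' : MulAut.conj e • ⁅V, MulAut.conj e • E₁⁆ ≠ ⁅V, MulAut.conj e • E₁⁆ := by
        rw [hWe]
        intro h
        refine hW'ne ?_
        have h7 := congrArg (MulAut.conj e⁻¹ • ·) h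
        simp only [Solvable.conj_conj, inv_mul_cancel_left, inv_mul_cancel, Solvable.conj_one_smul] at h7
        exact h7
      obtain ⟨-, -, hE''W'⟩ := pairs hAe (fun x hx => by
          have hx' : e⁻¹ * x * e ∈ E := mem_sup_left (Coprime.mem_conj.1 hx)
          have := E.mul_mem (E.mul_mem heE hx') (E.inv_mem heE)
          simpa [mul_assoc] using this)
        (fun h => by
          have h' := congrArg (fun K : Subgroup G => Nat.card K) h
          simp only [Coprime.card_conj] at h'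
          exact hne1 (eq_of_le_of_card_ge le_sup_left h'.ge))
        e heE hW''W'
      rw [hWe, Solvable.conj_conj] at hE''W'
      obtain ⟨hAee, hWee⟩ := h1.conj hB (hEE (mul_mem heE heE))
      have hmem : e * w' * e⁻¹ ∈ ⁅V, MulAut.conj (e * e) • E₁⁆ ⊓
          centralizer ((MulAut.conj (e * e) • E₁ : Subgroup G) : Set G) := by
        refine ⟨hWee ▸ heeW'', ?_⟩
        rw [hee]
        refine Subgroup.mul_mem _ (Subgroup.mul_mem _ ?_ ?_) (Subgroup.inv_mem _ ?_)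
        · exact le_centralizer_iff.1 hE''W' hw'W'
        · exact le_centralizer_iff.1 hE''W huW
        · exact le_centralizer_iff.1 hE''W' hu'W'
      rw [hAee.fixed_eq_bot hB, mem_bot, conj_eq_one_iff, hw', conj_eq_one_iff] at hmem
      simp [hmem]
  -- faithful on `W`
  have hT : E₁ ⊓ centralizer (W : Set G) = ⊥ := by
    refine hB.eq_bot_of_chain (inf_le_left.trans h1.le) (sn_of_normal inf_le_left h1.le (fun a ha => ?_) h1.sn)
      (L := W) (commutator_mono le_rfl inf_le_left) inf_le_right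
    exact Coprime.mem_normalizer_of_forall fun x hx => ⟨E₁.mul_mem (E₁.mul_mem ha hx.1) (E₁.inv_mem ha),
      (mem_normalizer_iff.1 (PLocal.normalizer_le_normalizer_centralizer _
        (normalizer_commutator_ge_right V E₁ ha)) x).1 hx.2⟩
  have huniq : ∀ f ∈ E₁, f ∉ normalizer (W₂ : Set G) → ∀ g ∈ E₁, g ∉ normalizer (W₂ : Set G) → f = g⁻¹ := by
    intro f hf hfN g hg hgN
    have hmem : f * g ∈ E₁ ⊓ centralizer (W : Set G) := ⟨E₁.mul_mem hf hg, mem_centralizer_iff.2 fun w hw => ?_⟩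
    · rw [hT, mem_bot, mul_eq_one_iff_eq_inv] at hmem
      exact hmem
    have h8 : (f * g) * w * (f * g)⁻¹ = w := by
      calc (f * g) * w * (f * g)⁻¹ = f * (g * w * g⁻¹) * f⁻¹ := by group
        _ = f * w⁻¹ * f⁻¹ := by rw [hinv g hg hgN w hw]
        _ = (w⁻¹)⁻¹ := hinv f hf hfN w⁻¹ (W.inv_mem hw)
        _ = w := inv_inv w
    exact (mul_inv_eq_iff_eq_mul.1 h8).symm
  obtain ⟨f, hf, hfN⟩ := Set.not_subset.1 hcase2
  have hall : E₁ ≤ zpowers f := by
    intro x hx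
    by_cases hxN : x ∈ normalizer (W₂ : Set G)
    · have h1' : x * f ∉ normalizer (W₂ : Set G) := fun h => hfN (by
        simpa using mul_mem (inv_mem hxN) h)
      have h2' := huniq (x * f) (E₁.mul_mem hx hf) h1' f hf hfN
      have : x = f⁻¹ * f⁻¹ := eq_mul_inv_iff_mul_eq.2 h2'
      rw [this]
      exact mul_mem (inv_mem (mem_zpowers f)) (inv_mem (mem_zpowers f))
    · rw [huniq x hx hxN f hf hfN]
      exact inv_mem (mem_zpowers f)
  have h2c := h1.two
  have hf2 : f = f⁻¹ := huniq f hf hfN f hf hfN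
  have := (PLocal.card_le_of_le hall).trans_eq (Nat.card_zpowers f)
  have : orderOf f ≤ 2 := Nat.le_of_dvd (by norm_num) (orderOf_dvd_of_pow_eq_one (by
    rw [pow_two]; nth_rw 1 [hf2]; exact inv_mul_cancel f))
  omega

end Cfsg.Agent.FFPair
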